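import Cfsg.Agent.H116.RatB0.SignOrb
import Cfsg.Agent.H116.RatB0.StRow
import Cfsg.Agent.H114.StRGD
import Cfsg.Agent.H691.StExt
import Cfsg.Agent.H35.Poin
import Cfsg.Agent.CharactersDeep.AbelianQuotient

/-!
# The Steinberg character of a root group datum and the automorphism group (helper116)

* `Gel a g σ` : `g⁻¹ a(P_J) g = P_(σ J)` for all `J`; exists, `g` unique modulo `B`, `σ` unique;
* `exists_ext_st` : **the integer valued extension of the Steinberg character** to a group `A` acting on `S`, with the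
  congruence `th a ≡ th 1` modulo `p` for the elements `a` centralizing a Sylow `p`-subgroup of `S`, if `p` divides the
  index of every proper parabolic subgroup.
-/

set_option autoImplicit false
set_option linter.unusedSectionVars false

namespace Cfsg.Agent.H116.StAut

open Cfsg CoxeterSystem Cfsg.Agent.ChevalleyStructure.CoxeterGeom Cfsg.Agent.Tits.Roots Cfsg.Agent.Tits.Core
  Cfsg.Agent.Tits.Exchange Cfsg.Agent.Nodes.Reps Cfsg.Agent.Nodes.BNOf Cfsg.Agent.Nodes.StabComb
  Cfsg.Agent.Nodes.Bruhat Cfsg.Agent.Nodes.OppDec Cfsg.Agent.Nodes.LeviDec Cfsg.Agent.Nodes.NormalForm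
  Cfsg.Agent.KFacts.RgdOpp Cfsg.Agent.KFacts.RgdAut Cfsg.Agent.KFacts.RgdDiag Cfsg.Agent.H554.RG
  Cfsg.Agent.H116.RatB0 Cfsg.Agent.H116.TraceOrb Cfsg.Agent.H167.AltTrace Cfsg.Agent.H167.AltBldg

universe u

variable {I W S : Type*} [Fintype I] [DecidableEq I] [Group W] [Group S] {M : CoxeterMatrix I}
  {cs : CoxeterSystem M W} {A : I → I → ℤ} {h : IsCartan M A} {r : ℕ} {T : Subgroup S} {n : I → S}
  {X : (I → ℤ) → Subgroup S}

section Gel

/-- `g⁻¹ a(P_J) g = P_(σ J)` -/
def Gel (cs : CoxeterSystem M W) (h : IsCartan M A) (T : Subgroup S) (X : (I → ℤ) → Subgroup S) (a : MulAut S) (g : S)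
    (σ : Equiv.Perm I) : Prop :=
  ∀ (J : Set I) (x : S), g⁻¹ * a x * g ∈ PJ cs h T X (σ '' J) ↔ x ∈ PJ cs h T X J

theorem Gel.mul {a a' : MulAut S} {g g' : S} {σ σ' : Equiv.Perm I} (h1 : Gel cs h T X a g σ)
    (h2 : Gel cs h T X a' g' σ') : Gel cs h T X (a * a') (a g' * g) (σ * σ') := by
  intro J x
  have e : (a g' * g)⁻¹ * (a * a') x * (a g' * g) = g⁻¹ * a (g'⁻¹ * a' x * g') * g := by
    rw [MulAut.mul_apply, map_mul, map_mul, map_inv]
    group
  have e2 : ((σ * σ' : Equiv.Perm I) : I → I) '' J = σ '' (σ' '' J) := by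
    rw [Equiv.Perm.coe_mul, Set.image_comp]
  rw [e, e2, h1, h2]

theorem Gel.conj (s : S) : Gel cs h T X (MulAut.conj s) s 1 := by
  intro J x
  have e : s⁻¹ * MulAut.conj s x * s = x := by rw [MulAut.conj_apply]; group
  rw [e, Equiv.Perm.coe_one, Set.image_id]

variable (R : RGD cs h r T n X)

include R

theorem Gel.exists [Finite W] [Finite S] [Fact r.Prime] (hG : GG cs h T X = ⊤) (a : MulAut S) :
    ∃ g σ, Gel cs h T X a g σ := by
  obtain ⟨s, σ, hσ⟩ := exists_std_conj R hG a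
  refine ⟨s⁻¹, σ, fun J x => ?_⟩
  have h1 := map_PJ R hG hσ J
  rw [← h1, inv_inv]
  constructor
  · rintro ⟨y, hy, e⟩
    have h2 : y = x := (MulAut.conj s * a).injective (e.trans rfl)
    rwa [← h2]
  · intro hx
    exact ⟨x, hx, rfl⟩

theorem Gel.unique [Finite W] [Finite S] [Fact r.Prime] (hG : GG cs h T X = ⊤) {a : MulAut S} {g g' : S}
    {σ σ' : Equiv.Perm I} (h1 : Gel cs h T X a g σ) (h2 : Gel cs h T X a g' σ') :
    g⁻¹ * g' ∈ RGD.B cs h T X ∧ σ = σ' := by
  have key : ∀ (J : Set I) (y : S), y ∈ PJ cs h T X (σ '' J) ↔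
      (g⁻¹ * g')⁻¹ * y * (g⁻¹ * g') ∈ PJ cs h T X (σ' '' J) := by
    intro J y
    have e1 : g⁻¹ * a (a⁻¹ (g * y * g⁻¹)) * g = y := by rw [MulAut.apply_inv_self]; group
    have e2 : g'⁻¹ * a (a⁻¹ (g * y * g⁻¹)) * g' = (g⁻¹ * g')⁻¹ * y * (g⁻¹ * g') := by
      rw [MulAut.apply_inv_self]; group
    have h3 := h1 J (a⁻¹ (g * y * g⁻¹))
    have h4 := h2 J (a⁻¹ (g * y * g⁻¹))
    rw [e1] at h3
    rw [e2] at h4
    rw [h3, h4]
  have hB : PJ cs h T X (∅ : Set I) = RGD.B cs h T X := H35.Poin.PJ_empty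
  have hmem : g⁻¹ * g' ∈ RGD.B cs h T X := by
    refine mem_of_B_le_conj R hG (P := RGD.B cs h T X) le_rfl ?_
    intro b hb
    have h3 := (key ∅ b).1 (by rw [Set.image_empty, hB]; exact hb)
    rw [Set.image_empty, hB] at h3
    exact ⟨_, h3, by
      show MulAut.conj (g⁻¹ * g') ((g⁻¹ * g')⁻¹ * b * (g⁻¹ * g')) = b
      rw [MulAut.conj_apply]; group⟩
  refine ⟨hmem, ?_⟩
  have key2 : ∀ J : Set I, σ '' J = σ' '' J := by
    intro J
    apply PJ_injective R
    ext y
    rw [key J y]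
    have h4 : g⁻¹ * g' ∈ PJ cs h T X (σ' '' J) := B_le_PJ hmem
    constructor
    · intro h5
      have h6 := mul_mem (mul_mem h4 h5) (inv_mem h4)
      have e : (g⁻¹ * g') * ((g⁻¹ * g')⁻¹ * y * (g⁻¹ * g')) * (g⁻¹ * g')⁻¹ = y := by group
      rwa [e] at h6
    · intro h5
      exact mul_mem (mul_mem (inv_mem h4) h5) h4
  ext i
  have h5 := key2 {i}
  rw [Set.image_singleton, Set.image_singleton] at h5
  exact Set.singleton_injective h5

end Gel

section Act

variable {R : RGD cs h r T n X} {hG : GG cs h T X = ⊤} [Finite W] [Finite S] [Fact r.Prime]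

/-- the element of an automorphism -/
noncomputable def gel (R : RGD cs h r T n X) (hG : GG cs h T X = ⊤) (a : MulAut S) : S := (Gel.exists R hG a).choose

/-- the permutation of the types of an automorphism -/
noncomputable def typ (R : RGD cs h r T n X) (hG : GG cs h T X = ⊤) (a : MulAut S) : Equiv.Perm I :=
  (Gel.exists R hG a).choose_spec.choose

theorem gel_spec (R : RGD cs h r T n X) (hG : GG cs h T X = ⊤) (a : MulAut S) :
    Gel cs h T X a (gel R hG a) (typ R hG a) := (Gel.exists R hG a).choose_spec.choose_spec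

/-- the type permutation as a homomorphism -/
noncomputable def typHom (R : RGD cs h r T n X) (hG : GG cs h T X = ⊤) : MulAut S →* Equiv.Perm I where
  toFun := typ R hG
  map_one' := by
    have h1 := Gel.conj (cs := cs) (h := h) (T := T) (X := X) (1 : S)
    rw [map_one] at h1
    exact (Gel.unique R hG (gel_spec R hG 1) h1).2
  map_mul' a b := (Gel.unique R hG (gel_spec R hG (a * b)) ((gel_spec R hG a).mul (gel_spec R hG b))).2

theorem typHom_conj (s : S) : typHom R hG (MulAut.conj s) = 1 :=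
  (Gel.unique R hG (gel_spec R hG (MulAut.conj s)) (Gel.conj s)).2

/-- the action of an automorphism on the cosets of `B` -/
noncomputable def act (R : RGD cs h r T n X) (hG : GG cs h T X = ⊤) (a : MulAut S) :
    S ⧸ RGD.B cs h T X → S ⧸ RGD.B cs h T X :=
  Quotient.map' (s₁ := QuotientGroup.leftRel (RGD.B cs h T X)) (s₂ := QuotientGroup.leftRel (RGD.B cs h T X))
    (fun x => a x * gel R hG a) (by
      intro x y hxy
      rw [QuotientGroup.leftRel_apply] at hxy ⊢
      have hB : PJ cs h T X (∅ : Set I) = RGD.B cs h T X := H35.Poin.PJ_empty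
      have h1 := (gel_spec R hG a ∅ (x⁻¹ * y)).2 (by rw [hB]; exact hxy)
      rw [Set.image_empty, hB] at h1
      have e : (a x * gel R hG a)⁻¹ * (a y * gel R hG a) = (gel R hG a)⁻¹ * a (x⁻¹ * y) * gel R hG a := by
        rw [map_mul, map_inv]; group
      rw [e]
      exact h1)

theorem act_mk (a : MulAut S) (x : S) :
    act R hG a (QuotientGroup.mk x) = QuotientGroup.mk (a x * gel R hG a) := rfl

theorem act_mk_of {a : MulAut S} {g : S} {σ : Equiv.Perm I} (hg : Gel cs h T X a g σ) (x : S) :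
    act R hG a (QuotientGroup.mk x) = QuotientGroup.mk (a x * g) := by
  rw [act_mk, QuotientGroup.eq]
  have e : (a x * gel R hG a)⁻¹ * (a x * g) = (gel R hG a)⁻¹ * g := by group
  rw [e]
  exact (Gel.unique R hG (gel_spec R hG a) hg).1

theorem act_mul (a b : MulAut S) (x : S ⧸ RGD.B cs h T X) : act R hG (a * b) x = act R hG a (act R hG b x) := by
  induction x using QuotientGroup.induction_on with
  | _ x =>
    rw [act_mk_of ((gel_spec R hG a).mul (gel_spec R hG b)), act_mk, act_mk, map_mul, mul_assoc]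
    rfl

theorem act_conj (s : S) (x : S ⧸ RGD.B cs h T X) : act R hG (MulAut.conj s) x = s • x := by
  induction x using QuotientGroup.induction_on with
  | _ x =>
    rw [act_mk_of (Gel.conj s)]
    show (QuotientGroup.mk (MulAut.conj s x * s) : S ⧸ RGD.B cs h T X) = QuotientGroup.mk (s * x)
    rw [MulAut.conj_apply]
    congr 1
    group

theorem act_one (x : S ⧸ RGD.B cs h T X) : act R hG 1 x = x := by
  have h1 := act_conj (R := R) (hG := hG) (1 : S) x
  rwa [map_one, one_smul] at h1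

/-- the action of a group on the cosets of `B`, through automorphisms -/
@[implicit_reducible]
noncomputable def mact (R : RGD cs h r T n X) (hG : GG cs h T X = ⊤) {A' : Type*} [Group A'] (ψ : A' →* MulAut S) :
    MulAction A' (S ⧸ RGD.B cs h T X) where
  smul a x := act R hG (ψ a) x
  one_smul x := by
    show act R hG (ψ 1) x = x
    rw [map_one, act_one]
  mul_smul a b x := by
    show act R hG (ψ (a * b)) x = act R hG (ψ a) (act R hG (ψ b) x)
    rw [map_mul, act_mul]

end Act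

section Main

open Cfsg.Agent.H167.SteinbergMod

variable [Finite W] [Finite S] [Fact r.Prime] (R : RGD cs h r T n X) (hG : GG cs h T X = ⊤)
  {A' : Type*} [Group A'] (ψ : A' →* MulAut S)

theorem rel_iff (Δ : Bldg cs (S ⧸ RGD.B cs h T X))
    (hδ : ∀ (a b k : S) (w : W), Rp cs R.nsys w k → (Δ.δ (QuotientGroup.mk a) (QuotientGroup.mk b) = w ↔
        ∃ b₁ ∈ RGD.B cs h T X, ∃ b₂ ∈ RGD.B cs h T X, a⁻¹ * b = b₁ * k * b₂)) (a : MulAut S) (K : Finset I)
    (x y : S ⧸ RGD.B cs h T X) : Δ.δ x y ∈ WJ cs (K : Set I) ↔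
      Δ.δ (act R hG a x) (act R hG a y) ∈ WJ cs ((K.map (typHom R hG a).toEmbedding : Finset I) : Set I) := by
  induction x using QuotientGroup.induction_on with
  | _ x =>
  induction y using QuotientGroup.induction_on with
  | _ y =>
    rw [act_mk, act_mk, H114.StRGD.mem_WJ_iff R Δ hδ, H114.StRGD.mem_WJ_iff R Δ hδ, Finset.coe_map]
    have e : (a x * gel R hG a)⁻¹ * (a y * gel R hG a) = (gel R hG a)⁻¹ * a (x⁻¹ * y) * gel R hG a := by
      rw [map_mul, map_inv]; group
    rw [e]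
    exact (gel_spec R hG a (K : Set I) (x⁻¹ * y)).symm

/-- a `p`-group acting by isometries and commuting with `a` acts on the classes fixed by `a` -/
theorem dvd_card_fixed {C : Type*} [Fintype C] (Δ : Bldg cs C) [MulAction S C]
    (hiso : ∀ (g : S) (x y : C), Δ.δ (g • x) (g • y) = Δ.δ x y) (c : C) {K : Finset I} (f : C → C)
    (hf : ∀ x y, Δ.δ x y ∈ WJ cs (K : Set I) → Δ.δ (f x) (f y) ∈ WJ cs (K : Set I))
    {p : ℕ} [Fact p.Prime] {Q : Subgroup S} (hQ : IsPGroup p Q) (hcomm : ∀ q ∈ Q, ∀ x, f (q • x) = q • f x)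
    (hno : ∀ x : C, ¬ ∀ q ∈ Q, Δ.δ x (q • x) ∈ WJ cs (K : Set I)) :
    p ∣ Nat.card {x : C // K ⊆ (bSys Δ c).N x ∧ (bSys Δ c).r K x (f x)} := by
  classical
  have hT : K ⊆ (Finset.univ : Finset I) := Finset.subset_univ _
  set Sy := bSys Δ c with hSy
  have heq := Sy.equiv K hT
  have hr : ∀ (g : S) (x y : C), Sy.r K x y → Sy.r K (g • x) (g • y) := by
    intro g x y hxy
    rw [hSy, r_bSys] at hxy ⊢
    rwa [hiso]
  have hf' : ∀ x y, Sy.r K x y → Sy.r K (f x) (f y) := fun x y hxy => hf x y hxy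
  let Xt := {x : C // K ⊆ Sy.N x ∧ Sy.r K x (f x)}
  have hmem : ∀ (q : Q) (x : Xt), K ⊆ Sy.N (Sy.gt hT ((q : S) • x.1) : C) ∧
      Sy.r K (Sy.gt hT ((q : S) • x.1) : C) (f (Sy.gt hT ((q : S) • x.1) : C)) := by
    intro q x
    refine ⟨(Sy.gt hT _).2, ?_⟩
    have h1 := Sy.gt_rel hT ((q : S) • x.1)
    refine heq.trans (heq.symm h1) (heq.trans (hr q _ _ x.2.2) ?_)
    rw [← hcomm q q.2]
    exact hf' _ _ h1
  let act' : MulAction Q Xt :=
    { smul := fun q x => ⟨(Sy.gt hT ((q : S) • x.1) : C), hmem q x⟩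
      one_smul := by
        intro x
        apply Subtype.ext
        show (Sy.gt hT (((1 : Q) : S) • x.1) : C) = x.1
        have h1 : Sy.gt hT (((1 : Q) : S) • x.1) = (⟨x.1, x.2.1⟩ : {i // K ⊆ Sy.N i}) := by
          rw [Sy.gt_eq_iff hT, Subgroup.coe_one, one_smul]
          exact heq.refl x.1
        rw [h1]
      mul_smul := by
        intro q q' x
        apply Subtype.ext
        show (Sy.gt hT (((q * q' : Q) : S) • x.1) : C) = (Sy.gt hT ((q : S) • (Sy.gt hT ((q' : S) • x.1) : C)) : C)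
        have h1 : Sy.gt hT (((q * q' : Q) : S) • x.1) = Sy.gt hT ((q : S) • (Sy.gt hT ((q' : S) • x.1) : C)) := by
          rw [Sy.gt_eq_iff hT, Subgroup.coe_mul, mul_smul]
          exact heq.trans (hr q _ _ (Sy.gt_rel hT ((q' : S) • x.1)))
            (Sy.gt_rel hT ((q : S) • (Sy.gt hT ((q' : S) • x.1) : C)))
        rw [h1] }
  have h1 := hQ.card_modEq_card_fixedPoints Xt
  have h2 : Nat.card (MulAction.fixedPoints Q Xt) = 0 := by
    rw [Nat.card_eq_zero]
    left
    constructor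
    rintro ⟨x, hx⟩
    apply hno x.1
    intro q hq
    have h3 : (Sy.gt hT (q • x.1) : C) = x.1 := congrArg Subtype.val (hx ⟨q, hq⟩)
    have h4 := Sy.gt_rel hT (q • x.1)
    rw [h3] at h4
    exact heq.symm h4
  rw [h2] at h1
  exact (Nat.modEq_zero_iff_dvd).1 h1

/-- the whole chamber set is one class -/
theorem card_fixed_univ {C : Type*} [Fintype C] (Δ : Bldg cs C) (c : C) {K : Finset I} (hK : K = Finset.univ)
    (f : C → C) : Nat.card {x : C // K ⊆ (bSys Δ c).N x ∧ (bSys Δ c).r K x (f x)} = 1 := by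
  classical
  have hT : K ⊆ (Finset.univ : Finset I) := Finset.subset_univ _
  have hr : ∀ x y, (bSys Δ c).r K x y := by
    intro x y
    rw [r_bSys, hK, Finset.coe_univ]
    exact mem_WJ_univ cs _
  rw [Nat.card_eq_one_iff_unique]
  constructor
  · constructor
    rintro ⟨x, hx⟩ ⟨y, hy⟩
    exact Subtype.ext ((bSys Δ c).gate_unique hT hx.1 hy.1 (hr x y))
  · obtain ⟨y, -, hy⟩ := (bSys Δ c).gate K hT c
    exact ⟨⟨y, hy, hr _ _⟩⟩

end Main

theorem un_eq_univ {σ : Equiv.Perm I} {U : Finset (Orb σ)} (hU : un σ U = Finset.univ) : U = Finset.univ := by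
  ext o
  refine ⟨fun _ => Finset.mem_univ _, fun _ => ?_⟩
  induction o using Quotient.inductionOn with
  | h i =>
    have h1 : i ∈ un σ U := hU ▸ Finset.mem_univ i
    exact mem_un.1 h1

theorem un_univ (σ : Equiv.Perm I) : un σ (Finset.univ : Finset (Orb σ)) = Finset.univ := by
  ext i
  exact ⟨fun _ => Finset.mem_univ _, fun _ => mem_un.2 (Finset.mem_univ _)⟩

/-- the alternating sum over the sets of orbits of types -/
noncomputable def cnt [Finite W] [Finite S] [Fact r.Prime] (R : RGD cs h r T n X) (hG : GG cs h T X = ⊤)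
    [Fintype (S ⧸ RGD.B cs h T X)] (Δ : Bldg cs (S ⧸ RGD.B cs h T X)) (a : MulAut S) : ℤ :=
  ∑ U : Finset (Orb (typHom R hG a)), (-1 : ℤ) ^ U.card *
    (Nat.card {x // un (typHom R hG a) U ⊆ (bSys Δ (QuotientGroup.mk 1)).N x ∧
      (bSys Δ (QuotientGroup.mk 1)).r (un (typHom R hG a) U) x (act R hG a x)} : ℤ)

theorem cnt_modEq [Finite W] [Finite S] [Fact r.Prime] (R : RGD cs h r T n X) (hG : GG cs h T X = ⊤)
    [Fintype (S ⧸ RGD.B cs h T X)] (Δ : Bldg cs (S ⧸ RGD.B cs h T X))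
    (hiso : ∀ (g : S) (x y : S ⧸ RGD.B cs h T X), Δ.δ (g • x) (g • y) = Δ.δ x y)
    (hδ : ∀ (a b k : S) (w : W), Rp cs R.nsys w k → (Δ.δ (QuotientGroup.mk a) (QuotientGroup.mk b) = w ↔
        ∃ b₁ ∈ RGD.B cs h T X, ∃ b₂ ∈ RGD.B cs h T X, a⁻¹ * b = b₁ * k * b₂))
    {p : ℕ} [hp : Fact p.Prime] (hJ : ∀ J : Finset I, J ≠ Finset.univ → p ∣ (PJ cs h T X (J : Set I)).index)
    (Q : Sylow p S) {a : MulAut S} (ha : ∀ q ∈ Q, a q = q) :
    cnt R hG Δ a ≡ (-1) ^ Fintype.card (Orb (typHom R hG a)) [ZMOD p] := by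
  classical
  unfold cnt
  set σ := typHom R hG a with hσ
  have h1 : ∀ U : Finset (Orb σ), (-1 : ℤ) ^ U.card * (Nat.card {x // un σ U ⊆ (bSys Δ (QuotientGroup.mk 1)).N x ∧
      (bSys Δ (QuotientGroup.mk 1)).r (un σ U) x (act R hG a x)} : ℤ) ≡
      (if U = Finset.univ then (-1) ^ Fintype.card (Orb σ) else 0) [ZMOD p] := by
    intro U
    by_cases hU : U = Finset.univ
    · rw [if_pos hU, card_fixed_univ Δ _ (by rw [hU, un_univ]) (act R hG a), hU, Finset.card_univ]
      simp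
    · rw [if_neg hU, Int.modEq_zero_iff_dvd]
      apply Dvd.dvd.mul_left
      rw [Int.natCast_dvd_natCast]
      have hK : un σ U ≠ Finset.univ := fun h2 => hU (un_eq_univ h2)
      refine dvd_card_fixed Δ hiso _ (act R hG a) ?_ Q.2 ?_ ?_
      · intro x y hxy
        have h2 := (rel_iff R hG Δ hδ a (un σ U) x y).1 hxy
        rwa [← hσ, map_un] at h2
      · intro q hq x
        induction x using QuotientGroup.induction_on with
        | _ x =>
          show act R hG a (QuotientGroup.mk (q * x)) = q • act R hG a (QuotientGroup.mk x)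
          rw [act_mk, act_mk]
          show (QuotientGroup.mk (a (q * x) * gel R hG a) : S ⧸ RGD.B cs h T X) =
            QuotientGroup.mk (q * (a x * gel R hG a))
          rw [map_mul, ha q hq, mul_assoc]
      · intro x
        induction x using QuotientGroup.induction_on with
        | _ x =>
          intro hx
          have h2 : (Q : Subgroup S) ≤ (PJ cs h T X ((un σ U : Finset I) : Set I)).map (MulAut.conj x).toMonoidHom := by
            intro q hq
            have h3 := hx q hq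
            have h4 : q • (QuotientGroup.mk x : S ⧸ RGD.B cs h T X) = QuotientGroup.mk (q * x) := rfl
            rw [h4, H114.StRGD.mem_WJ_iff R Δ hδ] at h3
            refine ⟨x⁻¹ * (q * x), h3, ?_⟩
            show MulAut.conj x (x⁻¹ * (q * x)) = q
            rw [MulAut.conj_apply]; group
          have h3 := (Subgroup.index_dvd_of_le h2)
          have h4 : ((PJ cs h T X ((un σ U : Finset I) : Set I)).map (MulAut.conj x).toMonoidHom).index =
              (PJ cs h T X ((un σ U : Finset I) : Set I)).index :=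
            Subgroup.index_map_equiv _ (MulAut.conj x)
          rw [h4] at h3
          exact Q.not_dvd_index ((hJ _ hK).trans h3)
  refine (sum_modEq Finset.univ fun U _ => h1 U).trans ?_
  rw [Finset.sum_ite_eq' Finset.univ Finset.univ, if_pos (Finset.mem_univ _)]

/-- **The integer valued extension of the Steinberg character.** -/
theorem exists_ext_st [Finite W] [Finite S] [Fact r.Prime] (R : RGD cs h r T n X) (hG : GG cs h T X = ⊤)
    {A' : Type*} [Group A'] [Finite A'] (f : S →* A') (ψ : A' →* MulAut S) (hψ : ∀ s, ψ (f s) = MulAut.conj s) :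
    ∃ th : A' → ℤ, IsIrrCharacter A' (fun a => (th a : ℂ)) ∧ IsIrrCharacter S (fun s => (th (f s) : ℂ)) ∧
      th 1 = Nat.card (RGD.Sup X (RGD.Pos cs h)) ∧
      ∀ (p : ℕ) [Fact p.Prime], (∀ J : Finset I, J ≠ Finset.univ → p ∣ (PJ cs h T X (J : Set I)).index) →
        ∀ (Q : Sylow p S) (a : A'), (∀ q ∈ Q, ψ a q = q) → th a ≡ th 1 [ZMOD p] := by
  classical
  obtain ⟨Δ, hiso, htr, hδ⟩ := H167.SteinbergRGD.exists_bldg R (hgen_of_GG R hG)
  have : Fintype (S ⧸ RGD.B cs h T X) := Fintype.ofFinite _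
  have : Fintype A' := Fintype.ofFinite _
  let _ := mact R hG ψ
  set c : S ⧸ RGD.B cs h T X := QuotientGroup.mk 1 with hc
  have hne : Nonempty (S ⧸ RGD.B cs h T X) := ⟨c⟩
  have hσ : ∀ (a : A') (K : Finset I) (x y : S ⧸ RGD.B cs h T X), (bSys Δ c).r K x y ↔
      (bSys Δ c).r (K.map (typHom R hG (ψ a)).toEmbedding) (a • x) (a • y) := fun a K x y =>
    rel_iff R hG Δ hδ (ψ a) K x y
  have hmemA : ∀ (a : A') (v : S ⧸ RGD.B cs h T X → ℂ), v ∈ H167.SteinbergMod.Harm Δ →
      permRep ℂ A' (S ⧸ RGD.B cs h T X) a v ∈ H167.SteinbergMod.Harm Δ := by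
    intro a v hv
    rw [← harm_bSys Δ c] at hv ⊢
    exact TraceOrb.mem_harm (bSys Δ c) a _ (hσ a) v hv
  let ρ : Representation ℂ A' (H167.SteinbergMod.Harm Δ) :=
    { toFun := fun a => (permRep ℂ A' (S ⧸ RGD.B cs h T X) a).restrict (hmemA a)
      map_one' := by ext; simp
      map_mul' := fun x y => by ext; simp }
  have htrace : ∀ a : A', ρ.character a = ((cnt R hG Δ (ψ a) : ℤ) : ℂ) := by
    intro a
    have h1 := TraceOrb.trace_harm (bSys Δ c) a (typHom R hG (ψ a)) (hσ a)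
    have h2 : ρ.character a = LinearMap.trace ℂ (bSys Δ c).harm
        ((permRep ℂ A' (S ⧸ RGD.B cs h T X) a).restrict (TraceOrb.mem_harm (bSys Δ c) a _ (hσ a))) :=
      trace_congr (harm_bSys Δ c).symm (permRep ℂ A' (S ⧸ RGD.B cs h T X) a) (hmemA a) _
    rw [h2, h1]
    unfold cnt
    push_cast
    rfl
  have hrestr : (ρ.comp f : Representation ℂ S (H167.SteinbergMod.Harm Δ)) = H167.SteinbergMod.stRep Δ hiso := by
    refine MonoidHom.ext fun k => LinearMap.ext fun v => Subtype.ext ?_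
    funext x
    have h1 : (f k)⁻¹ • x = k⁻¹ • x := by
      show act R hG (ψ (f k)⁻¹) x = k⁻¹ • x
      rw [← map_inv f, hψ, act_conj]
    change (v : S ⧸ RGD.B cs h T X → ℂ) ((f k)⁻¹ • x) = (v : S ⧸ RGD.B cs h T X → ℂ) (k⁻¹ • x)
    rw [h1]
  -- the apartments
  choose k hk using fun w : W => exists_rp cs R.nsys w
  have hap0 : ∀ v w, Δ.δ (QuotientGroup.mk (k v)) (QuotientGroup.mk (k w)) = v⁻¹ * w := by
    intro v w
    rw [hδ _ _ _ _ ((hk v).inv.mul (hk w))]
    exact ⟨1, one_mem _, 1, one_mem _, by group⟩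
  have hapt : ∀ x y, Δ.Opp x y → ∃ a : W → S ⧸ RGD.B cs h T X,
      (∀ v w, Δ.δ (a v) (a w) = v⁻¹ * w) ∧ a 1 = x ∧ a (w0 cs) = y := by
    intro x y hxy
    have h1 : Δ.δ (QuotientGroup.mk (k 1)) (QuotientGroup.mk (k (w0 cs))) = Δ.δ x y := by
      rw [hap0, inv_one, one_mul]
      exact hxy.symm
    obtain ⟨g, hg1, hg2⟩ := htr _ _ _ _ h1
    refine ⟨fun w => g • QuotientGroup.mk (k w), ?_, hg1, hg2⟩
    intro v w
    rw [hiso, hap0]
  have hirr : (H167.SteinbergMod.stRep Δ hiso).IsIrreducible := by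
    refine H167.SteinbergMod.irreducible Δ hiso (QuotientGroup.mk (k 1)) (hapt _) ⟨QuotientGroup.mk (k (w0 cs)), ?_⟩ htr
    unfold Bldg.Opp
    rw [hap0, inv_one, one_mul]
  have hirrA : ρ.IsIrreducible := H691.StExt.isIrreducible_of_restrict ρ f (by rw [hrestr]; exact hirr)
  have hres : ∀ s, (H167.SteinbergMod.stRep Δ hiso).character s = ((cnt R hG Δ (ψ (f s)) : ℤ) : ℂ) := by
    intro s
    rw [← htrace, ← hrestr]
    rfl
  have hsgn : ∀ s : S, Equiv.Perm.sign (typHom R hG (ψ (f s))) = 1 := by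
    intro s
    rw [hψ, typHom_conj, map_one]
  refine ⟨fun a => ((Equiv.Perm.sign (typHom R hG (ψ a)) : ℤˣ) : ℤ) * cnt R hG Δ (ψ a), ?_, ?_, ?_, ?_⟩
  · have h1 := Characters.Core.isIrrCharacter_of_rep _ hirrA
    have h2 := CharactersDeep.AbelianQuotient.isIrr_linear_mul ((Units.map (Int.castRingHom ℂ).toMonoidHom).comp
      ((Equiv.Perm.sign (α := I)).comp ((typHom R hG).comp ψ))) h1
    convert h2 using 1
    funext a
    rw [Pi.mul_apply, htrace]
    push_cast
    rfl
  · have h1 := Characters.Core.isIrrCharacter_of_rep _ hirr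
    convert h1 using 1
    funext s
    show ((((Equiv.Perm.sign (typHom R hG (ψ (f s))) : ℤˣ) : ℤ) * cnt R hG Δ (ψ (f s)) : ℤ) : ℂ) = _
    rw [hres, hsgn, Units.val_one, one_mul]
  · have h1 := hres 1
    rw [H167.SteinbergMod.character_eq Δ hiso c (hapt c) (one_smul S c),
      H167.AltRGD.card_opp_fixed R Δ hδ (one_mem _)] at h1
    have h2 : Nat.card {u : RGD.Sup X (RGD.Pos cs h) // (u : S)⁻¹ * 1 * u ∈ T} =
        Nat.card (RGD.Sup X (RGD.Pos cs h)) :=
      Nat.card_congr ⟨fun u => u.1, fun u => ⟨u, by simp⟩, fun u => rfl, fun u => rfl⟩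
    rw [h2, map_one] at h1
    have h3 := hsgn 1
    rw [map_one] at h3
    have h4 : ((Nat.card (RGD.Sup X (RGD.Pos cs h)) : ℤ)) = cnt R hG Δ (ψ 1) := by exact_mod_cast h1
    show ((Equiv.Perm.sign (typHom R hG (ψ 1)) : ℤˣ) : ℤ) * cnt R hG Δ (ψ 1) = _
    rw [h3, h4, Units.val_one, one_mul]
  · intro p hp hJ Q a ha
    have key : ∀ b : A', (∀ q ∈ Q, ψ b q = q) → ((Equiv.Perm.sign (typHom R hG (ψ b)) : ℤˣ) : ℤ) * cnt R hG Δ (ψ b) ≡
        (-1) ^ Fintype.card I [ZMOD p] := by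
      intro b hb
      refine ((cnt_modEq R hG Δ hiso hδ hJ Q hb).mul_left _).trans ?_
      rw [sign_eq, ← pow_add, add_assoc, pow_add, ← two_mul, pow_mul (-1 : ℤ) 2]
      simp
    exact (key a ha).trans (key 1 (fun q _ => by rw [map_one]; rfl)).symm

end Cfsg.Agent.H116.StAut
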