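import Cfsg.Agent.H116.RatB0.OrdPar

/-!
# Tables of weights and orders of the maximal parabolic subgroups of `E7(q)` (helper116, generated)
-/

set_option autoImplicit false
set_option linter.unusedSectionVars false
set_option maxRecDepth 100000

namespace Cfsg.Agent.H116.RatB0

open CoxeterSystem Cfsg.Agent.ChevalleyStructure.CoxeterGeom Cfsg.Agent.Tits.Roots Cfsg.Agent.Tits.Core
  Cfsg.Agent.Tits.RootComb Cfsg.Agent.Nodes.Reps Cfsg.Agent.Nodes.BNOf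
  Cfsg.Agent.Nodes.StabComb Cfsg.Agent.Nodes.Bruhat Cfsg.Agent.Nodes.LeviDec Cfsg.Agent.H35.Poin
  Cfsg.Agent.H35.PoinNum Cfsg.Agent.H35.ExcIdx Cfsg.Agent.H134.StrP
  Cfsg.Agent.ChevalleyStructure.CoxeterGeomTypes Cfsg.Lie

/-- the table of `E7`, nodes [1, 2, 3, 4, 5, 6], weight 6 (12 weights) -/
def LE7_123456_6 : List ((Fin 7 → ℤ) × ℕ) := [(![0, 0, 0, 0, 0, 0, 1], 0), (![0, 0, 0, 0, 0, 1, -1], 1), (![0, 0, 0,
    0, 1, -1, 0], 2), (![0, 0, 0, 1, -1, 0, 0], 3), (![0, 1, 1, -1, 0, 0, 0], 4), (![0, -1, 1, 0, 0, 0, 0], 5), (![1,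
    1, -1, 0, 0, 0, 0], 5), (![1, -1, -1, 1, 0, 0, 0], 6), (![1, 0, 0, -1, 1, 0, 0], 7), (![1, 0, 0, 0, -1, 1, 0],
    8), (![1, 0, 0, 0, 0, -1, 1], 9), (![1, 0, 0, 0, 0, 0, -1], 10)]

theorem tE7_123456_6 : Tab (cartanOf chevE7 7) [1, 2, 3, 4, 5, 6] 6 LE7_123456_6 :=
  Tab.of_check (by decide +kernel)

theorem sE7_123456_6 {q : ℕ} (hq : 1 ≤ q) : (LE7_123456_6.map fun e => q ^ e.2).sum * pr q [1, 5] = pr q [10, 6] := by
  refine sum_of_lens hq (Ln := [0, 1, 2, 3, 4, 5, 5, 6, 7, 8, 9, 10]) (by decide +kernel) ?_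
  simp only [List.map_cons, List.map_nil, List.sum_cons, List.sum_nil, List.prod_cons, List.prod_nil]
  ring

/-- the table of `E7`, nodes [1, 2, 3, 4, 5], weight 5 (10 weights) -/
def LE7_12345_5 : List ((Fin 7 → ℤ) × ℕ) := [(![0, 0, 0, 0, 0, 1, 0], 0), (![0, 0, 0, 0, 1, -1, 1], 1), (![0, 0, 0,
    1, -1, 0, 1], 2), (![0, 1, 1, -1, 0, 0, 1], 3), (![0, -1, 1, 0, 0, 0, 1], 4), (![1, 1, -1, 0, 0, 0, 1], 4), (![1,
    -1, -1, 1, 0, 0, 1], 5), (![1, 0, 0, -1, 1, 0, 1], 6), (![1, 0, 0, 0, -1, 1, 1], 7), (![1, 0, 0, 0, 0, -1, 2], 8)]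

theorem tE7_12345_5 : Tab (cartanOf chevE7 7) [1, 2, 3, 4, 5] 5 LE7_12345_5 :=
  Tab.of_check (by decide +kernel)

theorem sE7_12345_5 {q : ℕ} (hq : 1 ≤ q) : (LE7_12345_5.map fun e => q ^ e.2).sum * pr q [1, 4] = pr q [8, 5] := by
  refine sum_of_lens hq (Ln := [0, 1, 2, 3, 4, 4, 5, 6, 7, 8]) (by decide +kernel) ?_
  simp only [List.map_cons, List.map_nil, List.sum_cons, List.sum_nil, List.prod_cons, List.prod_nil]
  ring

/-- the table of `E7`, nodes [1, 2, 3, 4], weight 4 (8 weights) -/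
def LE7_1234_4 : List ((Fin 7 → ℤ) × ℕ) := [(![0, 0, 0, 0, 1, 0, 0], 0), (![0, 0, 0, 1, -1, 1, 0], 1), (![0, 1, 1,
    -1, 0, 1, 0], 2), (![0, -1, 1, 0, 0, 1, 0], 3), (![1, 1, -1, 0, 0, 1, 0], 3), (![1, -1, -1, 1, 0, 1, 0], 4),
    (![1, 0, 0, -1, 1, 1, 0], 5), (![1, 0, 0, 0, -1, 2, 0], 6)]

theorem tE7_1234_4 : Tab (cartanOf chevE7 7) [1, 2, 3, 4] 4 LE7_1234_4 :=
  Tab.of_check (by decide +kernel)

theorem sE7_1234_4 {q : ℕ} (hq : 1 ≤ q) : (LE7_1234_4.map fun e => q ^ e.2).sum * pr q [1, 3] = pr q [6, 4] := by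
  refine sum_of_lens hq (Ln := [0, 1, 2, 3, 3, 4, 5, 6]) (by decide +kernel) ?_
  simp only [List.map_cons, List.map_nil, List.sum_cons, List.sum_nil, List.prod_cons, List.prod_nil]
  ring

/-- the table of `E7`, nodes [0, 1, 2, 3, 4], weight 0 (10 weights) -/
def LE7_01234_0 : List ((Fin 7 → ℤ) × ℕ) := [(![1, 0, 0, 0, 0, 0, 0], 0), (![-1, 0, 1, 0, 0, 0, 0], 1), (![0, 0, -1,
    1, 0, 0, 0], 2), (![0, 1, 0, -1, 1, 0, 0], 3), (![0, -1, 0, 0, 1, 0, 0], 4), (![0, 1, 0, 0, -1, 1, 0], 4), (![0,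
    -1, 0, 1, -1, 1, 0], 5), (![0, 0, 1, -1, 0, 1, 0], 6), (![1, 0, -1, 0, 0, 1, 0], 7), (![-1, 0, 0, 0, 0, 1, 0], 8)]

theorem tE7_01234_0 : Tab (cartanOf chevE7 7) [0, 1, 2, 3, 4] 0 LE7_01234_0 :=
  Tab.of_check (by decide +kernel)

theorem sE7_01234_0 {q : ℕ} (hq : 1 ≤ q) : (LE7_01234_0.map fun e => q ^ e.2).sum * pr q [1, 4] = pr q [8, 5] := by
  refine sum_of_lens hq (Ln := [0, 1, 2, 3, 4, 4, 5, 6, 7, 8]) (by decide +kernel) ?_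
  simp only [List.map_cons, List.map_nil, List.sum_cons, List.sum_nil, List.prod_cons, List.prod_nil]
  ring

/-- the table of `E7`, nodes [0, 1, 2, 3, 4, 5], weight 5 (27 weights) -/
def LE7_012345_5 : List ((Fin 7 → ℤ) × ℕ) := [(![0, 0, 0, 0, 0, 1, 0], 0), (![0, 0, 0, 0, 1, -1, 1], 1), (![0, 0, 0,
    1, -1, 0, 1], 2), (![0, 1, 1, -1, 0, 0, 1], 3), (![0, -1, 1, 0, 0, 0, 1], 4), (![1, 1, -1, 0, 0, 0, 1], 4), (![1,
    -1, -1, 1, 0, 0, 1], 5), (![-1, 1, 0, 0, 0, 0, 1], 5), (![-1, -1, 0, 1, 0, 0, 1], 6), (![1, 0, 0, -1, 1, 0, 1],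
    6), (![-1, 0, 1, -1, 1, 0, 1], 7), (![1, 0, 0, 0, -1, 1, 1], 7), (![0, 0, -1, 0, 1, 0, 1], 8), (![-1, 0, 1, 0,
    -1, 1, 1], 8), (![1, 0, 0, 0, 0, -1, 2], 8), (![0, 0, -1, 1, -1, 1, 1], 9), (![-1, 0, 1, 0, 0, -1, 2], 9), (![0,
    1, 0, -1, 0, 1, 1], 10), (![0, 0, -1, 1, 0, -1, 2], 10), (![0, -1, 0, 0, 0, 1, 1], 11), (![0, 1, 0, -1, 1, -1,
    2], 11), (![0, -1, 0, 0, 1, -1, 2], 12), (![0, 1, 0, 0, -1, 0, 2], 12), (![0, -1, 0, 1, -1, 0, 2], 13), (![0, 0,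
    1, -1, 0, 0, 2], 14), (![1, 0, -1, 0, 0, 0, 2], 15), (![-1, 0, 0, 0, 0, 0, 2], 16)]

theorem tE7_012345_5 : Tab (cartanOf chevE7 7) [0, 1, 2, 3, 4, 5] 5 LE7_012345_5 :=
  Tab.of_check (by decide +kernel)

theorem sE7_012345_5 {q : ℕ} (hq : 1 ≤ q) : (LE7_012345_5.map fun e => q ^ e.2).sum * pr q [1, 4] = pr q [9, 12] := by
  refine sum_of_lens hq (Ln := [0, 1, 2, 3, 4, 4, 5, 5, 6, 6, 7, 7, 8, 8, 8, 9, 9, 10, 10, 11, 11, 12, 12, 13, 14,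
    15, 16]) (by decide +kernel) ?_
  simp only [List.map_cons, List.map_nil, List.sum_cons, List.sum_nil, List.prod_cons, List.prod_nil]
  ring

theorem E7_p123_132 : PathOK CoxeterMatrix.E₇ [1, 2, 3] [1, 3, 2] [] 1 := by
  constructor <;> decide +kernel

theorem E7_p023456_023456 : PathOK CoxeterMatrix.E₇ [0, 2, 3, 4, 5, 6] [0, 2, 3, 4, 5, 6] [] 0 := by
  constructor <;> decide +kernel

theorem E7_p013456_0 : PathOK CoxeterMatrix.E₇ [0, 1, 3, 4, 5, 6] [0] [1, 3, 4, 5, 6] 0 := by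
  constructor <;> decide +kernel

theorem E7_p13456_13456 : PathOK CoxeterMatrix.E₇ [1, 3, 4, 5, 6] [1, 3, 4, 5, 6] [] 1 := by
  constructor <;> decide +kernel

theorem E7_p012456_02 : PathOK CoxeterMatrix.E₇ [0, 1, 2, 4, 5, 6] [0, 2] [1, 4, 5, 6] 0 := by
  constructor <;> decide +kernel

theorem E7_p1456_1 : PathOK CoxeterMatrix.E₇ [1, 4, 5, 6] [1] [4, 5, 6] 1 := by
  constructor <;> decide +kernel

theorem E7_p456_456 : PathOK CoxeterMatrix.E₇ [4, 5, 6] [4, 5, 6] [] 4 := by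
  constructor <;> decide +kernel

theorem E7_p012356_0231 : PathOK CoxeterMatrix.E₇ [0, 1, 2, 3, 5, 6] [0, 2, 3, 1] [5, 6] 0 := by
  constructor <;> decide +kernel

theorem E7_p56_56 : PathOK CoxeterMatrix.E₇ [5, 6] [5, 6] [] 5 := by
  constructor <;> decide +kernel

theorem E7_p012346_6 : PathOK CoxeterMatrix.E₇ [0, 1, 2, 3, 4, 6] [6] [0, 1, 2, 3, 4] 6 := by
  constructor <;> decide +kernel

section

variable {W Y : Type*} [Group W] [Group Y] [Finite W] [Finite Y]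
  {cs : CoxeterSystem CoxeterMatrix.E₇ W} {r : ℕ} {T : Subgroup Y} {n : Fin 7 → Y}
  {X : (Fin 7 → ℤ) → Subgroup Y} (R : RGD cs (hpE7.isCartan) r T n X) {q : ℕ} (hq : 2 ≤ q)
  (hs : ∀ i, Nat.card (X (sr i)) = q)

include R hq hs

theorem oE7_123 : ParOrd cs (hpE7.isCartan) T X q 7 [1, 2, 3] [1, 1, 1, 1, 2, 3, 4] :=
  ParOrd.path (ParOrd.nil R) R hq hs E7_p123_132 (by decide)

theorem oE7_1234 : ParOrd cs (hpE7.isCartan) T X q 7 [1, 2, 3, 4] [1, 1, 1, 2, 4, 4, 6] :=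
  ParOrd.tab (oE7_123 R hq hs) R hq hs tE7_1234_4 (by decide) (by decide) (sE7_1234_4 (by omega)) (by decide)

theorem oE7_12345 : ParOrd cs (hpE7.isCartan) T X q 7 [1, 2, 3, 4, 5] [1, 1, 2, 4, 5, 6, 8] :=
  ParOrd.tab (oE7_1234 R hq hs) R hq hs tE7_12345_5 (by decide) (by decide) (sE7_12345_5 (by omega)) (by decide)

theorem oE7_123456 : ParOrd cs (hpE7.isCartan) T X q 7 [1, 2, 3, 4, 5, 6] [1, 2, 4, 6, 6, 8, 10] :=
  ParOrd.tab (oE7_12345 R hq hs) R hq hs tE7_123456_6 (by decide) (by decide) (sE7_123456_6 (by omega)) (by decide)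

theorem oE7_023456 : ParOrd cs (hpE7.isCartan) T X q 7 [0, 2, 3, 4, 5, 6] [1, 2, 3, 4, 5, 6, 7] :=
  ParOrd.path (ParOrd.nil R) R hq hs E7_p023456_023456 (by decide)

theorem oE7_13456 : ParOrd cs (hpE7.isCartan) T X q 7 [1, 3, 4, 5, 6] [1, 1, 2, 3, 4, 5, 6] :=
  ParOrd.path (ParOrd.nil R) R hq hs E7_p13456_13456 (by decide)

theorem oE7_013456 : ParOrd cs (hpE7.isCartan) T X q 7 [0, 1, 3, 4, 5, 6] [1, 2, 2, 3, 4, 5, 6] :=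
  ParOrd.path (oE7_13456 R hq hs) R hq hs E7_p013456_0 (by decide)

theorem oE7_456 : ParOrd cs (hpE7.isCartan) T X q 7 [4, 5, 6] [1, 1, 1, 1, 2, 3, 4] :=
  ParOrd.path (ParOrd.nil R) R hq hs E7_p456_456 (by decide)

theorem oE7_1456 : ParOrd cs (hpE7.isCartan) T X q 7 [1, 4, 5, 6] [1, 1, 1, 2, 2, 3, 4] :=
  ParOrd.path (oE7_456 R hq hs) R hq hs E7_p1456_1 (by decide)

theorem oE7_012456 : ParOrd cs (hpE7.isCartan) T X q 7 [0, 1, 2, 4, 5, 6] [1, 2, 2, 2, 3, 3, 4] :=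
  ParOrd.path (oE7_1456 R hq hs) R hq hs E7_p012456_02 (by decide)

theorem oE7_56 : ParOrd cs (hpE7.isCartan) T X q 7 [5, 6] [1, 1, 1, 1, 1, 2, 3] :=
  ParOrd.path (ParOrd.nil R) R hq hs E7_p56_56 (by decide)

theorem oE7_012356 : ParOrd cs (hpE7.isCartan) T X q 7 [0, 1, 2, 3, 5, 6] [1, 2, 2, 3, 3, 4, 5] :=
  ParOrd.path (oE7_56 R hq hs) R hq hs E7_p012356_0231 (by decide)

theorem oE7_01234 : ParOrd cs (hpE7.isCartan) T X q 7 [0, 1, 2, 3, 4] [1, 1, 2, 4, 5, 6, 8] :=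
  ParOrd.tab (oE7_1234 R hq hs) R hq hs tE7_01234_0 (by decide) (by decide) (sE7_01234_0 (by omega)) (by decide)

theorem oE7_012346 : ParOrd cs (hpE7.isCartan) T X q 7 [0, 1, 2, 3, 4, 6] [1, 2, 2, 4, 5, 6, 8] :=
  ParOrd.path (oE7_01234 R hq hs) R hq hs E7_p012346_6 (by decide)

theorem oE7_012345 : ParOrd cs (hpE7.isCartan) T X q 7 [0, 1, 2, 3, 4, 5] [1, 2, 5, 6, 8, 9, 12] :=
  ParOrd.tab (oE7_01234 R hq hs) R hq hs tE7_012345_5 (by decide) (by decide) (sE7_012345_5 (by omega)) (by decide)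

end

end Cfsg.Agent.H116.RatB0
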