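import Cfsg.Agent.H116.RatB0.OrdPar

/-!
# Tables of weights and orders of the maximal parabolic subgroups of `E8(q)` (helper116, generated)
-/

set_option autoImplicit false
set_option linter.unusedSectionVars false
set_option maxRecDepth 100000

namespace Cfsg.Agent.H116.RatB0

open CoxeterSystem Cfsg.Agent.ChevalleyStructure.CoxeterGeom Cfsg.Agent.Tits.Roots Cfsg.Agent.Tits.Core
  Cfsg.Agent.Tits.RootComb Cfsg.Agent.Nodes.Reps Cfsg.Agent.Nodes.BNOf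
  Cfsg.Agent.Nodes.StabComb Cfsg.Agent.Nodes.Bruhat Cfsg.Agent.Nodes.LeviDec Cfsg.Agent.H35.Poin
  Cfsg.Agent.H35.PoinNum Cfsg.Agent.H35.ExcIdx Cfsg.Agent.H134.StrP
  Cfsg.Agent.ChevalleyStructure.CoxeterGeomTypes Cfsg.Lie

/-- the table of `E8`, nodes [1, 2, 3, 4, 5, 6, 7], weight 7 (14 weights) -/
def LE8_1234567_7 : List ((Fin 8 → ℤ) × ℕ) := [(![0, 0, 0, 0, 0, 0, 0, 1], 0), (![0, 0, 0, 0, 0, 0, 1, -1], 1), (![0,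
    0, 0, 0, 0, 1, -1, 0], 2), (![0, 0, 0, 0, 1, -1, 0, 0], 3), (![0, 0, 0, 1, -1, 0, 0, 0], 4), (![0, 1, 1, -1, 0,
    0, 0, 0], 5), (![0, -1, 1, 0, 0, 0, 0, 0], 6), (![1, 1, -1, 0, 0, 0, 0, 0], 6), (![1, -1, -1, 1, 0, 0, 0, 0], 7),
    (![1, 0, 0, -1, 1, 0, 0, 0], 8), (![1, 0, 0, 0, -1, 1, 0, 0], 9), (![1, 0, 0, 0, 0, -1, 1, 0], 10), (![1, 0, 0,
    0, 0, 0, -1, 1], 11), (![1, 0, 0, 0, 0, 0, 0, -1], 12)]

theorem tE8_1234567_7 : Tab (cartanOf chevE8 8) [1, 2, 3, 4, 5, 6, 7] 7 LE8_1234567_7 :=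
  Tab.of_check (by decide +kernel)

theorem sE8_1234567_7 {q : ℕ} (hq : 1 ≤ q) : (LE8_1234567_7.map fun e => q ^ e.2).sum * pr q [1, 6] = pr q [12, 7] :=
    by
  refine sum_of_lens hq (Ln := [0, 1, 2, 3, 4, 5, 6, 6, 7, 8, 9, 10, 11, 12]) (by decide +kernel) ?_
  simp only [List.map_cons, List.map_nil, List.sum_cons, List.sum_nil, List.prod_cons, List.prod_nil]
  ring

/-- the table of `E8`, nodes [1, 2, 3, 4, 5, 6], weight 6 (12 weights) -/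
def LE8_123456_6 : List ((Fin 8 → ℤ) × ℕ) := [(![0, 0, 0, 0, 0, 0, 1, 0], 0), (![0, 0, 0, 0, 0, 1, -1, 1], 1), (![0,
    0, 0, 0, 1, -1, 0, 1], 2), (![0, 0, 0, 1, -1, 0, 0, 1], 3), (![0, 1, 1, -1, 0, 0, 0, 1], 4), (![0, -1, 1, 0, 0,
    0, 0, 1], 5), (![1, 1, -1, 0, 0, 0, 0, 1], 5), (![1, -1, -1, 1, 0, 0, 0, 1], 6), (![1, 0, 0, -1, 1, 0, 0, 1], 7),
    (![1, 0, 0, 0, -1, 1, 0, 1], 8), (![1, 0, 0, 0, 0, -1, 1, 1], 9), (![1, 0, 0, 0, 0, 0, -1, 2], 10)]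

theorem tE8_123456_6 : Tab (cartanOf chevE8 8) [1, 2, 3, 4, 5, 6] 6 LE8_123456_6 :=
  Tab.of_check (by decide +kernel)

theorem sE8_123456_6 {q : ℕ} (hq : 1 ≤ q) : (LE8_123456_6.map fun e => q ^ e.2).sum * pr q [1, 5] = pr q [10, 6] := by
  refine sum_of_lens hq (Ln := [0, 1, 2, 3, 4, 5, 5, 6, 7, 8, 9, 10]) (by decide +kernel) ?_
  simp only [List.map_cons, List.map_nil, List.sum_cons, List.sum_nil, List.prod_cons, List.prod_nil]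
  ring

/-- the table of `E8`, nodes [1, 2, 3, 4, 5], weight 5 (10 weights) -/
def LE8_12345_5 : List ((Fin 8 → ℤ) × ℕ) := [(![0, 0, 0, 0, 0, 1, 0, 0], 0), (![0, 0, 0, 0, 1, -1, 1, 0], 1), (![0,
    0, 0, 1, -1, 0, 1, 0], 2), (![0, 1, 1, -1, 0, 0, 1, 0], 3), (![0, -1, 1, 0, 0, 0, 1, 0], 4), (![1, 1, -1, 0, 0,
    0, 1, 0], 4), (![1, -1, -1, 1, 0, 0, 1, 0], 5), (![1, 0, 0, -1, 1, 0, 1, 0], 6), (![1, 0, 0, 0, -1, 1, 1, 0], 7),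
    (![1, 0, 0, 0, 0, -1, 2, 0], 8)]

theorem tE8_12345_5 : Tab (cartanOf chevE8 8) [1, 2, 3, 4, 5] 5 LE8_12345_5 :=
  Tab.of_check (by decide +kernel)

theorem sE8_12345_5 {q : ℕ} (hq : 1 ≤ q) : (LE8_12345_5.map fun e => q ^ e.2).sum * pr q [1, 4] = pr q [8, 5] := by
  refine sum_of_lens hq (Ln := [0, 1, 2, 3, 4, 4, 5, 6, 7, 8]) (by decide +kernel) ?_
  simp only [List.map_cons, List.map_nil, List.sum_cons, List.sum_nil, List.prod_cons, List.prod_nil]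
  ring

/-- the table of `E8`, nodes [1, 2, 3, 4], weight 4 (8 weights) -/
def LE8_1234_4 : List ((Fin 8 → ℤ) × ℕ) := [(![0, 0, 0, 0, 1, 0, 0, 0], 0), (![0, 0, 0, 1, -1, 1, 0, 0], 1), (![0, 1,
    1, -1, 0, 1, 0, 0], 2), (![0, -1, 1, 0, 0, 1, 0, 0], 3), (![1, 1, -1, 0, 0, 1, 0, 0], 3), (![1, -1, -1, 1, 0, 1,
    0, 0], 4), (![1, 0, 0, -1, 1, 1, 0, 0], 5), (![1, 0, 0, 0, -1, 2, 0, 0], 6)]

theorem tE8_1234_4 : Tab (cartanOf chevE8 8) [1, 2, 3, 4] 4 LE8_1234_4 :=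
  Tab.of_check (by decide +kernel)

theorem sE8_1234_4 {q : ℕ} (hq : 1 ≤ q) : (LE8_1234_4.map fun e => q ^ e.2).sum * pr q [1, 3] = pr q [6, 4] := by
  refine sum_of_lens hq (Ln := [0, 1, 2, 3, 3, 4, 5, 6]) (by decide +kernel) ?_
  simp only [List.map_cons, List.map_nil, List.sum_cons, List.sum_nil, List.prod_cons, List.prod_nil]
  ring

/-- the table of `E8`, nodes [0, 1, 2, 3, 4], weight 0 (10 weights) -/
def LE8_01234_0 : List ((Fin 8 → ℤ) × ℕ) := [(![1, 0, 0, 0, 0, 0, 0, 0], 0), (![-1, 0, 1, 0, 0, 0, 0, 0], 1), (![0,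
    0, -1, 1, 0, 0, 0, 0], 2), (![0, 1, 0, -1, 1, 0, 0, 0], 3), (![0, -1, 0, 0, 1, 0, 0, 0], 4), (![0, 1, 0, 0, -1,
    1, 0, 0], 4), (![0, -1, 0, 1, -1, 1, 0, 0], 5), (![0, 0, 1, -1, 0, 1, 0, 0], 6), (![1, 0, -1, 0, 0, 1, 0, 0], 7),
    (![-1, 0, 0, 0, 0, 1, 0, 0], 8)]

theorem tE8_01234_0 : Tab (cartanOf chevE8 8) [0, 1, 2, 3, 4] 0 LE8_01234_0 :=
  Tab.of_check (by decide +kernel)

theorem sE8_01234_0 {q : ℕ} (hq : 1 ≤ q) : (LE8_01234_0.map fun e => q ^ e.2).sum * pr q [1, 4] = pr q [8, 5] := by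
  refine sum_of_lens hq (Ln := [0, 1, 2, 3, 4, 4, 5, 6, 7, 8]) (by decide +kernel) ?_
  simp only [List.map_cons, List.map_nil, List.sum_cons, List.sum_nil, List.prod_cons, List.prod_nil]
  ring

/-- the table of `E8`, nodes [0, 1, 2, 3, 4, 5], weight 5 (27 weights) -/
def LE8_012345_5 : List ((Fin 8 → ℤ) × ℕ) := [(![0, 0, 0, 0, 0, 1, 0, 0], 0), (![0, 0, 0, 0, 1, -1, 1, 0], 1), (![0,
    0, 0, 1, -1, 0, 1, 0], 2), (![0, 1, 1, -1, 0, 0, 1, 0], 3), (![0, -1, 1, 0, 0, 0, 1, 0], 4), (![1, 1, -1, 0, 0,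
    0, 1, 0], 4), (![1, -1, -1, 1, 0, 0, 1, 0], 5), (![-1, 1, 0, 0, 0, 0, 1, 0], 5), (![-1, -1, 0, 1, 0, 0, 1, 0],
    6), (![1, 0, 0, -1, 1, 0, 1, 0], 6), (![-1, 0, 1, -1, 1, 0, 1, 0], 7), (![1, 0, 0, 0, -1, 1, 1, 0], 7), (![0, 0,
    -1, 0, 1, 0, 1, 0], 8), (![-1, 0, 1, 0, -1, 1, 1, 0], 8), (![1, 0, 0, 0, 0, -1, 2, 0], 8), (![0, 0, -1, 1, -1, 1,
    1, 0], 9), (![-1, 0, 1, 0, 0, -1, 2, 0], 9), (![0, 1, 0, -1, 0, 1, 1, 0], 10), (![0, 0, -1, 1, 0, -1, 2, 0], 10),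
    (![0, -1, 0, 0, 0, 1, 1, 0], 11), (![0, 1, 0, -1, 1, -1, 2, 0], 11), (![0, -1, 0, 0, 1, -1, 2, 0], 12), (![0, 1,
    0, 0, -1, 0, 2, 0], 12), (![0, -1, 0, 1, -1, 0, 2, 0], 13), (![0, 0, 1, -1, 0, 0, 2, 0], 14), (![1, 0, -1, 0, 0,
    0, 2, 0], 15), (![-1, 0, 0, 0, 0, 0, 2, 0], 16)]

theorem tE8_012345_5 : Tab (cartanOf chevE8 8) [0, 1, 2, 3, 4, 5] 5 LE8_012345_5 :=
  Tab.of_check (by decide +kernel)

theorem sE8_012345_5 {q : ℕ} (hq : 1 ≤ q) : (LE8_012345_5.map fun e => q ^ e.2).sum * pr q [1, 4] = pr q [9, 12] := by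
  refine sum_of_lens hq (Ln := [0, 1, 2, 3, 4, 4, 5, 5, 6, 6, 7, 7, 8, 8, 8, 9, 9, 10, 10, 11, 11, 12, 12, 13, 14,
    15, 16]) (by decide +kernel) ?_
  simp only [List.map_cons, List.map_nil, List.sum_cons, List.sum_nil, List.prod_cons, List.prod_nil]
  ring

/-- the table of `E8`, nodes [0, 1, 2, 3, 4, 5, 6], weight 6 (56 weights) -/
def LE8_0123456_6 : List ((Fin 8 → ℤ) × ℕ) := [(![0, 0, 0, 0, 0, 0, 1, 0], 0), (![0, 0, 0, 0, 0, 1, -1, 1], 1), (![0,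
    0, 0, 0, 1, -1, 0, 1], 2), (![0, 0, 0, 1, -1, 0, 0, 1], 3), (![0, 1, 1, -1, 0, 0, 0, 1], 4), (![0, -1, 1, 0, 0,
    0, 0, 1], 5), (![1, 1, -1, 0, 0, 0, 0, 1], 5), (![1, -1, -1, 1, 0, 0, 0, 1], 6), (![-1, 1, 0, 0, 0, 0, 0, 1], 6),
    (![-1, -1, 0, 1, 0, 0, 0, 1], 7), (![1, 0, 0, -1, 1, 0, 0, 1], 7), (![-1, 0, 1, -1, 1, 0, 0, 1], 8), (![1, 0, 0,
    0, -1, 1, 0, 1], 8), (![0, 0, -1, 0, 1, 0, 0, 1], 9), (![-1, 0, 1, 0, -1, 1, 0, 1], 9), (![1, 0, 0, 0, 0, -1, 1,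
    1], 9), (![0, 0, -1, 1, -1, 1, 0, 1], 10), (![-1, 0, 1, 0, 0, -1, 1, 1], 10), (![1, 0, 0, 0, 0, 0, -1, 2], 10),
    (![0, 1, 0, -1, 0, 1, 0, 1], 11), (![0, 0, -1, 1, 0, -1, 1, 1], 11), (![-1, 0, 1, 0, 0, 0, -1, 2], 11), (![0, -1,
    0, 0, 0, 1, 0, 1], 12), (![0, 1, 0, -1, 1, -1, 1, 1], 12), (![0, 0, -1, 1, 0, 0, -1, 2], 12), (![0, -1, 0, 0, 1,
    -1, 1, 1], 13), (![0, 1, 0, 0, -1, 0, 1, 1], 13), (![0, 1, 0, -1, 1, 0, -1, 2], 13), (![0, -1, 0, 1, -1, 0, 1,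
    1], 14), (![0, -1, 0, 0, 1, 0, -1, 2], 14), (![0, 1, 0, 0, -1, 1, -1, 2], 14), (![0, 0, 1, -1, 0, 0, 1, 1], 15),
    (![0, -1, 0, 1, -1, 1, -1, 2], 15), (![0, 1, 0, 0, 0, -1, 0, 2], 15), (![1, 0, -1, 0, 0, 0, 1, 1], 16), (![0, 0,
    1, -1, 0, 1, -1, 2], 16), (![0, -1, 0, 1, 0, -1, 0, 2], 16), (![-1, 0, 0, 0, 0, 0, 1, 1], 17), (![1, 0, -1, 0, 0,
    1, -1, 2], 17), (![0, 0, 1, -1, 1, -1, 0, 2], 17), (![-1, 0, 0, 0, 0, 1, -1, 2], 18), (![1, 0, -1, 0, 1, -1, 0,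
    2], 18), (![0, 0, 1, 0, -1, 0, 0, 2], 18), (![-1, 0, 0, 0, 1, -1, 0, 2], 19), (![1, 0, -1, 1, -1, 0, 0, 2], 19),
    (![-1, 0, 0, 1, -1, 0, 0, 2], 20), (![1, 1, 0, -1, 0, 0, 0, 2], 20), (![-1, 1, 1, -1, 0, 0, 0, 2], 21), (![1, -1,
    0, 0, 0, 0, 0, 2], 21), (![-1, -1, 1, 0, 0, 0, 0, 2], 22), (![0, 1, -1, 0, 0, 0, 0, 2], 22), (![0, -1, -1, 1, 0,
    0, 0, 2], 23), (![0, 0, 0, -1, 1, 0, 0, 2], 24), (![0, 0, 0, 0, -1, 1, 0, 2], 25), (![0, 0, 0, 0, 0, -1, 1, 2],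
    26), (![0, 0, 0, 0, 0, 0, -1, 3], 27)]

theorem tE8_0123456_6 : Tab (cartanOf chevE8 8) [0, 1, 2, 3, 4, 5, 6] 6 LE8_0123456_6 :=
  Tab.of_check (by decide +kernel)

theorem sE8_0123456_6 {q : ℕ} (hq : 1 ≤ q) : (LE8_0123456_6.map fun e => q ^ e.2).sum * pr q [1, 5, 9] = pr q [10,
    14, 18] := by
  refine sum_of_lens hq (Ln := [0, 1, 2, 3, 4, 5, 5, 6, 6, 7, 7, 8, 8, 9, 9, 9, 10, 10, 10, 11, 11, 11, 12, 12, 12,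
    13, 13, 13, 14, 14, 14, 15, 15, 15, 16, 16, 16, 17, 17, 17, 18, 18, 18, 19, 19, 20, 20, 21, 21, 22, 22, 23, 24,
    25, 26, 27]) (by decide +kernel) ?_
  simp only [List.map_cons, List.map_nil, List.sum_cons, List.sum_nil, List.prod_cons, List.prod_nil]
  ring

theorem E8_p123_132 : PathOK CoxeterMatrix.E₈ [1, 2, 3] [1, 3, 2] [] 1 := by
  constructor <;> decide +kernel

theorem E8_p0234567_0234567 : PathOK CoxeterMatrix.E₈ [0, 2, 3, 4, 5, 6, 7] [0, 2, 3, 4, 5, 6, 7] [] 0 := by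
  constructor <;> decide +kernel

theorem E8_p0134567_0 : PathOK CoxeterMatrix.E₈ [0, 1, 3, 4, 5, 6, 7] [0] [1, 3, 4, 5, 6, 7] 0 := by
  constructor <;> decide +kernel

theorem E8_p134567_134567 : PathOK CoxeterMatrix.E₈ [1, 3, 4, 5, 6, 7] [1, 3, 4, 5, 6, 7] [] 1 := by
  constructor <;> decide +kernel

theorem E8_p0124567_02 : PathOK CoxeterMatrix.E₈ [0, 1, 2, 4, 5, 6, 7] [0, 2] [1, 4, 5, 6, 7] 0 := by
  constructor <;> decide +kernel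

theorem E8_p14567_1 : PathOK CoxeterMatrix.E₈ [1, 4, 5, 6, 7] [1] [4, 5, 6, 7] 1 := by
  constructor <;> decide +kernel

theorem E8_p4567_4567 : PathOK CoxeterMatrix.E₈ [4, 5, 6, 7] [4, 5, 6, 7] [] 4 := by
  constructor <;> decide +kernel

theorem E8_p0123567_0231 : PathOK CoxeterMatrix.E₈ [0, 1, 2, 3, 5, 6, 7] [0, 2, 3, 1] [5, 6, 7] 0 := by
  constructor <;> decide +kernel

theorem E8_p567_567 : PathOK CoxeterMatrix.E₈ [5, 6, 7] [5, 6, 7] [] 5 := by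
  constructor <;> decide +kernel

theorem E8_p0123467_67 : PathOK CoxeterMatrix.E₈ [0, 1, 2, 3, 4, 6, 7] [6, 7] [0, 1, 2, 3, 4] 6 := by
  constructor <;> decide +kernel

theorem E8_p0123457_7 : PathOK CoxeterMatrix.E₈ [0, 1, 2, 3, 4, 5, 7] [7] [0, 1, 2, 3, 4, 5] 7 := by
  constructor <;> decide +kernel

section

variable {W Y : Type*} [Group W] [Group Y] [Finite W] [Finite Y]
  {cs : CoxeterSystem CoxeterMatrix.E₈ W} {r : ℕ} {T : Subgroup Y} {n : Fin 8 → Y}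
  {X : (Fin 8 → ℤ) → Subgroup Y} (R : RGD cs (hpE8.isCartan) r T n X) {q : ℕ} (hq : 2 ≤ q)
  (hs : ∀ i, Nat.card (X (sr i)) = q)

include R hq hs

theorem oE8_123 : ParOrd cs (hpE8.isCartan) T X q 8 [1, 2, 3] [1, 1, 1, 1, 1, 2, 3, 4] :=
  ParOrd.path (ParOrd.nil R) R hq hs E8_p123_132 (by decide)

theorem oE8_1234 : ParOrd cs (hpE8.isCartan) T X q 8 [1, 2, 3, 4] [1, 1, 1, 1, 2, 4, 4, 6] :=
  ParOrd.tab (oE8_123 R hq hs) R hq hs tE8_1234_4 (by decide) (by decide) (sE8_1234_4 (by omega)) (by decide)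

theorem oE8_12345 : ParOrd cs (hpE8.isCartan) T X q 8 [1, 2, 3, 4, 5] [1, 1, 1, 2, 4, 5, 6, 8] :=
  ParOrd.tab (oE8_1234 R hq hs) R hq hs tE8_12345_5 (by decide) (by decide) (sE8_12345_5 (by omega)) (by decide)

theorem oE8_123456 : ParOrd cs (hpE8.isCartan) T X q 8 [1, 2, 3, 4, 5, 6] [1, 1, 2, 4, 6, 6, 8, 10] :=
  ParOrd.tab (oE8_12345 R hq hs) R hq hs tE8_123456_6 (by decide) (by decide) (sE8_123456_6 (by omega)) (by decide)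

theorem oE8_1234567 : ParOrd cs (hpE8.isCartan) T X q 8 [1, 2, 3, 4, 5, 6, 7] [1, 2, 4, 6, 7, 8, 10, 12] :=
  ParOrd.tab (oE8_123456 R hq hs) R hq hs tE8_1234567_7 (by decide) (by decide) (sE8_1234567_7 (by omega)) (by decide)

theorem oE8_0234567 : ParOrd cs (hpE8.isCartan) T X q 8 [0, 2, 3, 4, 5, 6, 7] [1, 2, 3, 4, 5, 6, 7, 8] :=
  ParOrd.path (ParOrd.nil R) R hq hs E8_p0234567_0234567 (by decide)

theorem oE8_134567 : ParOrd cs (hpE8.isCartan) T X q 8 [1, 3, 4, 5, 6, 7] [1, 1, 2, 3, 4, 5, 6, 7] :=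
  ParOrd.path (ParOrd.nil R) R hq hs E8_p134567_134567 (by decide)

theorem oE8_0134567 : ParOrd cs (hpE8.isCartan) T X q 8 [0, 1, 3, 4, 5, 6, 7] [1, 2, 2, 3, 4, 5, 6, 7] :=
  ParOrd.path (oE8_134567 R hq hs) R hq hs E8_p0134567_0 (by decide)

theorem oE8_4567 : ParOrd cs (hpE8.isCartan) T X q 8 [4, 5, 6, 7] [1, 1, 1, 1, 2, 3, 4, 5] :=
  ParOrd.path (ParOrd.nil R) R hq hs E8_p4567_4567 (by decide)

theorem oE8_14567 : ParOrd cs (hpE8.isCartan) T X q 8 [1, 4, 5, 6, 7] [1, 1, 1, 2, 2, 3, 4, 5] :=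
  ParOrd.path (oE8_4567 R hq hs) R hq hs E8_p14567_1 (by decide)

theorem oE8_0124567 : ParOrd cs (hpE8.isCartan) T X q 8 [0, 1, 2, 4, 5, 6, 7] [1, 2, 2, 2, 3, 3, 4, 5] :=
  ParOrd.path (oE8_14567 R hq hs) R hq hs E8_p0124567_02 (by decide)

theorem oE8_567 : ParOrd cs (hpE8.isCartan) T X q 8 [5, 6, 7] [1, 1, 1, 1, 1, 2, 3, 4] :=
  ParOrd.path (ParOrd.nil R) R hq hs E8_p567_567 (by decide)

theorem oE8_0123567 : ParOrd cs (hpE8.isCartan) T X q 8 [0, 1, 2, 3, 5, 6, 7] [1, 2, 2, 3, 3, 4, 4, 5] :=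
  ParOrd.path (oE8_567 R hq hs) R hq hs E8_p0123567_0231 (by decide)

theorem oE8_01234 : ParOrd cs (hpE8.isCartan) T X q 8 [0, 1, 2, 3, 4] [1, 1, 1, 2, 4, 5, 6, 8] :=
  ParOrd.tab (oE8_1234 R hq hs) R hq hs tE8_01234_0 (by decide) (by decide) (sE8_01234_0 (by omega)) (by decide)

theorem oE8_0123467 : ParOrd cs (hpE8.isCartan) T X q 8 [0, 1, 2, 3, 4, 6, 7] [1, 2, 2, 3, 4, 5, 6, 8] :=
  ParOrd.path (oE8_01234 R hq hs) R hq hs E8_p0123467_67 (by decide)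

theorem oE8_012345 : ParOrd cs (hpE8.isCartan) T X q 8 [0, 1, 2, 3, 4, 5] [1, 1, 2, 5, 6, 8, 9, 12] :=
  ParOrd.tab (oE8_01234 R hq hs) R hq hs tE8_012345_5 (by decide) (by decide) (sE8_012345_5 (by omega)) (by decide)

theorem oE8_0123457 : ParOrd cs (hpE8.isCartan) T X q 8 [0, 1, 2, 3, 4, 5, 7] [1, 2, 2, 5, 6, 8, 9, 12] :=
  ParOrd.path (oE8_012345 R hq hs) R hq hs E8_p0123457_7 (by decide)

theorem oE8_0123456 : ParOrd cs (hpE8.isCartan) T X q 8 [0, 1, 2, 3, 4, 5, 6] [1, 2, 6, 8, 10, 12, 14, 18] :=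
  ParOrd.tab (oE8_012345 R hq hs) R hq hs tE8_0123456_6 (by decide) (by decide) (sE8_0123456_6 (by omega)) (by decide)

end

end Cfsg.Agent.H116.RatB0
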