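import Cfsg.Agent.H116.RatB0.RowsExc
import Cfsg.Agent.H541.RatB0.RowOne
import Cfsg.Agent.H685.BR.RatBasic

/-!
# The rows `e8`, `f4`, `g2` of S4891 and `f4`, `g2` of S4857 (helper116)

`ord_mem_X` : the possible orders of `q` modulo a prime divisor of `|X(q)|`.
`row_e8`, `row_f4`, `row_g2` : S4891; `row57_f4`, `row57_g2` : S4857.
-/

set_option autoImplicit false
set_option linter.unusedSectionVars false

namespace Cfsg.Agent.H116.RatB0

open Cfsg Cfsg.Lie Cfsg.Agent.H35.PoinNum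
open Cfsg.Agent.H145.BR (RowInt RowT RowForT RowZ RowForZ)
open Cfsg.Agent.H685.BR (Row57 RowFor57 row57_of_rowInt)
open Cfsg.Agent.H541.RatB0

section Ord

variable {p : ℕ} [hp : Fact p.Prime]

/-- the possible orders of `q` -/
theorem ord_mem_E8 {F : Type} [Field F] [Fintype F] (hpF : (p : F) ≠ 0)
    (hG : p ∣ Nat.card ↥(chevE8.group F)) :
    orderOf ((Fintype.card F : ℕ) : ZMod p) ∈ [1, 2, 3, 4, 5, 6, 7, 8, 9, 10, 12, 14, 15, 18, 20, 24, 30] := by
  have hq := not_dvd_card hpF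
  have h1q : 1 ≤ Fintype.card F := Fintype.card_pos
  have h2 : 0 < cnt [2, 8, 12, 14, 18, 20, 24, 30] (orderOf ((Fintype.card F : ℕ) : ZMod p)) := by
    refine cnt_pos_of_dvd ?_ h1q
    have h3 := Cfsg.Agent.S1065.result (F := F) rfl
    have h4 : Nat.card ↥(chevE8.group F) = Fintype.card F ^ 120 * pr (Fintype.card F) [2, 8, 12, 14, 18, 20, 24, 30] := by
      simp only [pr_cons, pr_nil]
      rw [h3]
      ring
    have h5 : p ∣ Fintype.card F ^ 120 * pr (Fintype.card F) [2, 8, 12, 14, 18, 20, 24, 30] := by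
      rw [← h4]
      exact hG
    exact (hp.out.dvd_mul.1 h5).resolve_left fun h6 => hq (hp.out.dvd_of_dvd_pow h6)
  have h31 : orderOf ((Fintype.card F : ℕ) : ZMod p) < 31 := by
    by_contra hcon
    push Not at hcon
    have h6 : ∀ e ∈ ([2, 8, 12, 14, 18, 20, 24, 30] : List ℕ), ¬ orderOf ((Fintype.card F : ℕ) : ZMod p) ∣ e := by
      intro e he h7
      have h8 := Nat.le_of_dvd (by clear h7; revert e; decide) h7
      have h9 : e < 31 := by clear h7 h8; revert e; decide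
      omega
    rw [cnt, List.countP_pos_iff] at h2
    obtain ⟨e, he, h7⟩ := h2
    exact h6 e he (by simpa using h7)
  have key : ∀ d < 31, 0 < cnt [2, 8, 12, 14, 18, 20, 24, 30] d → d ∈ [1, 2, 3, 4, 5, 6, 7, 8, 9, 10, 12, 14, 15, 18, 20, 24, 30] := by decide
  exact key _ h31 h2

/-- the possible orders of `q` -/
theorem ord_mem_E7 {F : Type} [Field F] [Fintype F] (hpF : (p : F) ≠ 0)
    (hG : p ∣ Nat.card ↥(chevE7.group F)) :
    orderOf ((Fintype.card F : ℕ) : ZMod p) ∈ [1, 2, 3, 4, 5, 6, 7, 8, 9, 10, 12, 14, 18] := by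
  have hq := not_dvd_card hpF
  have h1q : 1 ≤ Fintype.card F := Fintype.card_pos
  have h2 : 0 < cnt [2, 6, 8, 10, 12, 14, 18] (orderOf ((Fintype.card F : ℕ) : ZMod p)) := by
    refine cnt_pos_of_dvd ?_ h1q
    have h3 := Cfsg.Agent.S1064.result (F := F) rfl
    have h4 : Nat.gcd 2 (Fintype.card F - 1) * Nat.card ↥(chevE7.group F) = Fintype.card F ^ 63 * pr (Fintype.card F) [2, 6, 8, 10, 12, 14, 18] := by
      simp only [pr_cons, pr_nil]
      rw [h3]
      ring
    have h5 : p ∣ Fintype.card F ^ 63 * pr (Fintype.card F) [2, 6, 8, 10, 12, 14, 18] := by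
      rw [← h4]
      exact Dvd.dvd.mul_left hG _
    exact (hp.out.dvd_mul.1 h5).resolve_left fun h6 => hq (hp.out.dvd_of_dvd_pow h6)
  have h31 : orderOf ((Fintype.card F : ℕ) : ZMod p) < 31 := by
    by_contra hcon
    push Not at hcon
    have h6 : ∀ e ∈ ([2, 6, 8, 10, 12, 14, 18] : List ℕ), ¬ orderOf ((Fintype.card F : ℕ) : ZMod p) ∣ e := by
      intro e he h7
      have h8 := Nat.le_of_dvd (by clear h7; revert e; decide) h7
      have h9 : e < 31 := by clear h7 h8; revert e; decide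
      omega
    rw [cnt, List.countP_pos_iff] at h2
    obtain ⟨e, he, h7⟩ := h2
    exact h6 e he (by simpa using h7)
  have key : ∀ d < 31, 0 < cnt [2, 6, 8, 10, 12, 14, 18] d → d ∈ [1, 2, 3, 4, 5, 6, 7, 8, 9, 10, 12, 14, 18] := by decide
  exact key _ h31 h2

/-- the possible orders of `q` -/
theorem ord_mem_E6 {F : Type} [Field F] [Fintype F] (hpF : (p : F) ≠ 0)
    (hG : p ∣ Nat.card ↥(chevE6.group F)) :
    orderOf ((Fintype.card F : ℕ) : ZMod p) ∈ [1, 2, 3, 4, 5, 6, 8, 9, 12] := by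
  have hq := not_dvd_card hpF
  have h1q : 1 ≤ Fintype.card F := Fintype.card_pos
  have h2 : 0 < cnt [2, 5, 6, 8, 9, 12] (orderOf ((Fintype.card F : ℕ) : ZMod p)) := by
    refine cnt_pos_of_dvd ?_ h1q
    have h3 := Cfsg.Agent.S1063.result (F := F) rfl
    have h4 : Nat.gcd 3 (Fintype.card F - 1) * Nat.card ↥(chevE6.group F) = Fintype.card F ^ 36 * pr (Fintype.card F) [2, 5, 6, 8, 9, 12] := by
      simp only [pr_cons, pr_nil]
      rw [h3]
      ring
    have h5 : p ∣ Fintype.card F ^ 36 * pr (Fintype.card F) [2, 5, 6, 8, 9, 12] := by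
      rw [← h4]
      exact Dvd.dvd.mul_left hG _
    exact (hp.out.dvd_mul.1 h5).resolve_left fun h6 => hq (hp.out.dvd_of_dvd_pow h6)
  have h31 : orderOf ((Fintype.card F : ℕ) : ZMod p) < 31 := by
    by_contra hcon
    push Not at hcon
    have h6 : ∀ e ∈ ([2, 5, 6, 8, 9, 12] : List ℕ), ¬ orderOf ((Fintype.card F : ℕ) : ZMod p) ∣ e := by
      intro e he h7
      have h8 := Nat.le_of_dvd (by clear h7; revert e; decide) h7
      have h9 : e < 31 := by clear h7 h8; revert e; decide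
      omega
    rw [cnt, List.countP_pos_iff] at h2
    obtain ⟨e, he, h7⟩ := h2
    exact h6 e he (by simpa using h7)
  have key : ∀ d < 31, 0 < cnt [2, 5, 6, 8, 9, 12] d → d ∈ [1, 2, 3, 4, 5, 6, 8, 9, 12] := by decide
  exact key _ h31 h2

/-- the possible orders of `q` -/
theorem ord_mem_F4 {F : Type} [Field F] [Fintype F] (hpF : (p : F) ≠ 0)
    (hG : p ∣ Nat.card ↥(chevF4.group F)) :
    orderOf ((Fintype.card F : ℕ) : ZMod p) ∈ [1, 2, 3, 4, 6, 8, 12] := by
  have hq := not_dvd_card hpF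
  have h1q : 1 ≤ Fintype.card F := Fintype.card_pos
  have h2 : 0 < cnt [2, 6, 8, 12] (orderOf ((Fintype.card F : ℕ) : ZMod p)) := by
    refine cnt_pos_of_dvd ?_ h1q
    have h3 := Cfsg.Agent.S1062.result (F := F) rfl
    have h4 : Nat.card ↥(chevF4.group F) = Fintype.card F ^ 24 * pr (Fintype.card F) [2, 6, 8, 12] := by
      simp only [pr_cons, pr_nil]
      rw [h3]
      ring
    have h5 : p ∣ Fintype.card F ^ 24 * pr (Fintype.card F) [2, 6, 8, 12] := by
      rw [← h4]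
      exact hG
    exact (hp.out.dvd_mul.1 h5).resolve_left fun h6 => hq (hp.out.dvd_of_dvd_pow h6)
  have h31 : orderOf ((Fintype.card F : ℕ) : ZMod p) < 31 := by
    by_contra hcon
    push Not at hcon
    have h6 : ∀ e ∈ ([2, 6, 8, 12] : List ℕ), ¬ orderOf ((Fintype.card F : ℕ) : ZMod p) ∣ e := by
      intro e he h7
      have h8 := Nat.le_of_dvd (by clear h7; revert e; decide) h7
      have h9 : e < 31 := by clear h7 h8; revert e; decide
      omega
    rw [cnt, List.countP_pos_iff] at h2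
    obtain ⟨e, he, h7⟩ := h2
    exact h6 e he (by simpa using h7)
  have key : ∀ d < 31, 0 < cnt [2, 6, 8, 12] d → d ∈ [1, 2, 3, 4, 6, 8, 12] := by decide
  exact key _ h31 h2

/-- the possible orders of `q` -/
theorem ord_mem_G2 {F : Type} [Field F] [Fintype F] (hpF : (p : F) ≠ 0)
    (hG : p ∣ Nat.card ↥(chevG2.group F)) :
    orderOf ((Fintype.card F : ℕ) : ZMod p) ∈ [1, 2, 3, 6] := by
  have hq := not_dvd_card hpF
  have h1q : 1 ≤ Fintype.card F := Fintype.card_pos
  have h2 : 0 < cnt [2, 6] (orderOf ((Fintype.card F : ℕ) : ZMod p)) := by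
    refine cnt_pos_of_dvd ?_ h1q
    have h3 := Cfsg.Agent.S1059.result (F := F) rfl
    have h4 : Nat.card ↥(chevG2.group F) = Fintype.card F ^ 6 * pr (Fintype.card F) [2, 6] := by
      simp only [pr_cons, pr_nil]
      rw [h3]
      ring
    have h5 : p ∣ Fintype.card F ^ 6 * pr (Fintype.card F) [2, 6] := by
      rw [← h4]
      exact hG
    exact (hp.out.dvd_mul.1 h5).resolve_left fun h6 => hq (hp.out.dvd_of_dvd_pow h6)
  have h31 : orderOf ((Fintype.card F : ℕ) : ZMod p) < 31 := by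
    by_contra hcon
    push Not at hcon
    have h6 : ∀ e ∈ ([2, 6] : List ℕ), ¬ orderOf ((Fintype.card F : ℕ) : ZMod p) ∣ e := by
      intro e he h7
      have h8 := Nat.le_of_dvd (by clear h7; revert e; decide) h7
      have h9 : e < 31 := by clear h7 h8; revert e; decide
      omega
    rw [cnt, List.countP_pos_iff] at h2
    obtain ⟨e, he, h7⟩ := h2
    exact h6 e he (by simpa using h7)
  have key : ∀ d < 31, 0 < cnt [2, 6] d → d ∈ [1, 2, 3, 6] := by decide
  exact key _ h31 h2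

end Ord

section Rows

variable {p : ℕ} [hp : Fact p.Prime]

/-- **all primes `p ∤ 2 q`** -/
theorem rowInt_F4 (hp2 : p ≠ 2) {F : Type} [Field F] [Fintype F] (hpF : (p : F) ≠ 0)
    (hG : p ∣ Nat.card ↥(chevF4.group F)) : RowInt p (chevF4.group F) := by
  have h2 := ord_mem_F4 hpF hG
  by_cases h4 : orderOf ((Fintype.card F : ℕ) : ZMod p) = 1
  · exact rowInt_one_F4 hp2 (dvd_of_ord_one Fintype.card_pos h4)
  · refine rowInt_F4_of_dvd hpF (m := orderOf ((Fintype.card F : ℕ) : ZMod p)) ?_ (dvd_E (not_dvd_card hpF))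
    clear hG
    generalize orderOf ((Fintype.card F : ℕ) : ZMod p) = d at h2 h4
    revert d
    decide

/-- **all primes `p ∤ 2 q`** -/
theorem rowInt_G2 (hp2 : p ≠ 2) {F : Type} [Field F] [Fintype F] (hpF : (p : F) ≠ 0)
    (hG : p ∣ Nat.card ↥(chevG2.group F)) : RowInt p (chevG2.group F) := by
  have h2 := ord_mem_G2 hpF hG
  by_cases h4 : orderOf ((Fintype.card F : ℕ) : ZMod p) = 1
  · exact rowInt_one_G2 hp2 (dvd_of_ord_one Fintype.card_pos h4)
  · refine rowInt_G2_of_dvd hpF (m := orderOf ((Fintype.card F : ℕ) : ZMod p)) ?_ (dvd_E (not_dvd_card hpF))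
    clear hG
    generalize orderOf ((Fintype.card F : ℕ) : ZMod p) = d at h2 h4
    revert d
    decide

/-- **the row `e8` of S4891** -/
theorem row_e8 (hp2 : p ≠ 2) : RowForT p (fun X _ => ∃ (F : Type) (_ : Field F) (_ : Fintype F), (p : F) ≠ 0 ∧
    Nonempty (X ≃* Lie.chevE8.group F)) :=
  row_E8_of fun _ _ _ _ hd => rowInt_one_E8 hp2 hd

/-- **the row `f4` of S4891** -/
theorem row_f4 (hp2 : p ≠ 2) : RowForT p (fun X _ => ∃ (F : Type) (_ : Field F) (_ : Fintype F), (p : F) ≠ 0 ∧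
    Nonempty (X ≃* Lie.chevF4.group F)) :=
  row_F4_of fun _ _ _ _ hd => rowInt_one_F4 hp2 hd

/-- **the row `g2` of S4891** -/
theorem row_g2 (hp2 : p ≠ 2) : RowForT p (fun X _ => ∃ (F : Type) (_ : Field F) (_ : Fintype F), (p : F) ≠ 0 ∧
    3 ≤ Fintype.card F ∧ Nonempty (X ≃* Lie.chevG2.group F)) :=
  row_G2_of fun _ _ _ _ _ hd => rowInt_one_G2 hp2 hd

/-- **the row `f4` of S4857** -/
theorem row57_f4 (hp2 : p ≠ 2) : RowFor57 p (fun X _ => ∃ (F : Type) (_ : Field F) (_ : Fintype F), (p : F) ≠ 0 ∧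
    Nonempty (X ≃* Lie.chevF4.group F)) := by
  intro X _ _ _ _ hd hX
  obtain ⟨F, _, _, hpF, ⟨e⟩⟩ := hX
  have hG : p ∣ Nat.card ↥(chevF4.group F) := by rwa [← Nat.card_congr e.toEquiv]
  have hfin : Finite ↥(chevF4.group F) := Finite.of_equiv X e.toEquiv
  exact H685.BR.Row57.congr e (row57_of_rowInt (rowInt_F4 hp2 hpF hG))

/-- **the row `g2` of S4857** -/
theorem row57_g2 (hp2 : p ≠ 2) : RowFor57 p (fun X _ => ∃ (F : Type) (_ : Field F) (_ : Fintype F), (p : F) ≠ 0 ∧
    3 ≤ Fintype.card F ∧ Nonempty (X ≃* Lie.chevG2.group F)) := by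
  intro X _ _ _ _ hd hX
  obtain ⟨F, _, _, hpF, _, ⟨e⟩⟩ := hX
  have hG : p ∣ Nat.card ↥(chevG2.group F) := by rwa [← Nat.card_congr e.toEquiv]
  have hfin : Finite ↥(chevG2.group F) := Finite.of_equiv X e.toEquiv
  exact H685.BR.Row57.congr e (row57_of_rowInt (rowInt_G2 hp2 hpF hG))

end Rows

end Cfsg.Agent.H116.RatB0
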