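import Cfsg.Agent.H134.StrP.Tab
import Cfsg.Agent.H116.RatB0.RowRgd

/-!
# Orders of parabolic subgroups as products of numbers `q ^ d - 1`, and the row from them (helper116)

* `ParOrd … q l J D` : `|P_J| (q - 1) ^ l = |B| ∏_{d ∈ D} (q ^ d - 1)`; steps `ParOrd.path` (a component of type `A`) and
  `ParOrd.tab` (a table of weights);
* `dvd_idx` : the index of `P_J` is divisible by `p` if `D` has less multiples of `d` than the list of the group, where
  `p` divides the `d`-th cyclotomic polynomial at `q`.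
-/

set_option autoImplicit false
set_option linter.unusedSectionVars false

namespace Cfsg.Agent.H116.RatB0

open CoxeterSystem Cfsg.Agent.ChevalleyStructure.CoxeterGeom Cfsg.Agent.Tits.Roots Cfsg.Agent.Tits.Core
  Cfsg.Agent.Tits.RootComb Cfsg.Agent.Nodes.Reps Cfsg.Agent.Nodes.BNOf
  Cfsg.Agent.Nodes.StabComb Cfsg.Agent.Nodes.Bruhat Cfsg.Agent.Nodes.LeviDec Cfsg.Agent.H35.Poin
  Cfsg.Agent.H35.PoinNum Cfsg.Agent.H35.ExcIdx Cfsg.Agent.H134.StrP

theorem pr_append (q : ℕ) (l₁ l₂ : List ℕ) : pr q (l₁ ++ l₂) = pr q l₁ * pr q l₂ := by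
  unfold pr
  rw [List.map_append, List.prod_append]

theorem pr_perm (q : ℕ) {l₁ l₂ : List ℕ} (h : l₁.Perm l₂) : pr q l₁ = pr q l₂ := by
  unfold pr
  exact (h.map _).prod_eq

theorem pr_pos {q : ℕ} (hq : 2 ≤ q) : ∀ l : List ℕ, (∀ d ∈ l, 0 < d) → 0 < pr q l
  | [], _ => by rw [pr_nil]; exact one_pos
  | d :: l, h => by
    rw [pr_cons]
    refine Nat.mul_pos ?_ (pr_pos hq l fun e he => h e (List.mem_cons_of_mem _ he))
    have h1 : q ^ 1 ≤ q ^ d := Nat.pow_le_pow_right (by omega) (h d List.mem_cons_self)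
    rw [pow_one] at h1
    omega

theorem pr_replicate (q m : ℕ) : pr q (List.replicate m 1) = (q - 1) ^ m := by
  unfold pr
  rw [List.map_replicate, List.prod_replicate, pow_one]

theorem pr_range (q m : ℕ) : pr q ((List.range m).map (· + 2)) = ∏ i ∈ Finset.range m, (q ^ (i + 2) - 1) := by
  induction m with
  | zero => simp [pr]
  | succ m ih =>
    rw [List.range_succ, List.map_append, pr_append, ih, Finset.prod_range_succ, List.map_singleton, pr_cons, pr_nil,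
      mul_one]

section Ord

variable {I W Y : Type*} [Fintype I] [DecidableEq I] [Group W] [Group Y] {M : CoxeterMatrix I}
  {cs : CoxeterSystem M W} {A : I → I → ℤ} {h : IsCartan M A} {r : ℕ} {T : Subgroup Y} {n : I → Y}
  {X : (I → ℤ) → Subgroup Y}

variable (cs h T X) in
/-- the order of `P_J` is `|B| ∏_{d ∈ D} (q ^ d - 1) / (q - 1) ^ l` -/
def ParOrd (q l : ℕ) (J : List I) (D : List ℕ) : Prop :=
  ∃ N, Nat.card ↥(PJ cs h T X {j | j ∈ J}) = N * Nat.card ↥(RGD.B cs h T X) ∧ N * (q - 1) ^ l = pr q D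

theorem parOrd_step {q l : ℕ} (hq : 2 ≤ q) {J : List I} {D D' E E' : List ℕ} (hE' : ∀ d ∈ E', 0 < d) {t N : ℕ}
    (hN : N * (q - 1) ^ l = pr q D') (ht : t * pr q E' = pr q E) (hp : (D ++ E').Perm (D' ++ E))
    (hc : Nat.card ↥(PJ cs h T X {j | j ∈ J}) = t * N * Nat.card ↥(RGD.B cs h T X)) : ParOrd cs h T X q l J D := by
  refine ⟨t * N, hc, ?_⟩
  have h1 := pr_perm q hp
  rw [pr_append, pr_append, ← hN, ← ht] at h1
  have h2 : (t * N * (q - 1) ^ l) * pr q E' = pr q D * pr q E' := by rw [h1]; ring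
  exact Nat.eq_of_mul_eq_mul_right (pr_pos hq E' hE') h2

theorem ParOrd.nil [Finite W] [Finite Y] (R : RGD cs h r T n X) {q l : ℕ} : ParOrd cs h T X q l [] (List.replicate l 1) :=
  ⟨1, card_nil R, by rw [pr_replicate, one_mul]⟩

theorem ParOrd.path [Finite W] [Finite Y] {q l : ℕ} {L' : List I} {D' : List ℕ} (hL : ParOrd cs h T X q l L' D')
    (R : RGD cs h r T n X) (hq : 2 ≤ q) (hs : ∀ i, Nat.card (X (sr i)) = q) {L C : List I} {i0 : I}
    (hP : PathOK M L C L' i0) {D : List ℕ}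
    (hp : (D ++ List.replicate C.length 1).Perm (D' ++ (List.range C.length).map (· + 2))) :
    ParOrd cs h T X q l L D := by
  obtain ⟨N, h1, h2⟩ := hL
  refine parOrd_step hq (fun d hd => ?_) h2 ?_ hp (card_step R hP (y := q) (fun i _ => hs i) h1)
  · rw [List.eq_of_mem_replicate hd]; exact one_pos
  · rw [pr_replicate, pr_range, ← mul_poin (by omega), mul_comm]
    rfl

theorem ParOrd.tab [Finite W] [Finite Y] {q l : ℕ} {L' : List I} {D' : List ℕ} (hL : ParOrd cs h T X q l L' D')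
    (R : RGD cs h r T n X) (hq : 2 ≤ q) (hs : ∀ i, Nat.card (X (sr i)) = q) {L : List I} {k : I}
    {Tb : List ((I → ℤ) × ℕ)} (hT : Tab A L k Tb) (hL' : ∀ j, j ∈ L' ↔ j ∈ L ∧ j ≠ k) {E E' : List ℕ}
    (hE' : ∀ d ∈ E', 0 < d) (ht : (Tb.map fun e => q ^ e.2).sum * pr q E' = pr q E) {D : List ℕ}
    (hp : (D ++ E').Perm (D' ++ E)) : ParOrd cs h T X q l L D := by
  obtain ⟨N, h1, h2⟩ := hL
  exact parOrd_step hq hE' h2 ht hp (card_tab_step R hT (y := q) (fun i _ => hs i) hL' h1)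

end Ord

/-- the criterion of divisibility -/
theorem dvd_idx {q : ℕ} (hq : 2 ≤ q) {N : ℕ} {dS dJ : List ℕ} (hS : ∀ d ∈ dS, 0 < d ∧ d < N)
    (hJ : ∀ d ∈ dJ, 0 < d ∧ d < N) {idx : ℕ} (hI : idx * pr q dJ = pr q dS) (hle : ∀ m < N, cnt dJ m ≤ cnt dS m)
    {p d : ℕ} (hpd : (p : ℤ) ∣ E q d) (hd : d < N) (hlt : cnt dJ d < cnt dS d) : p ∣ idx := by
  have h1 := eq_prod hq hS hJ hI hle
  have h9 : (p : ℤ) ∣ (idx : ℤ) := by
    rw [h1]
    refine dvd_trans ?_ (Finset.dvd_prod_of_mem _ (Finset.mem_range.2 hd))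
    exact dvd_pow hpd (by omega)
  exact_mod_cast h9

/-- `p` divides the value of the cyclotomic polynomial of the order of `q` -/
theorem dvd_E {q p : ℕ} [hp : Fact p.Prime] (h : ¬ p ∣ q) : (p : ℤ) ∣ E q (orderOf (q : ZMod p)) := by
  have h0 : (q : ZMod p) ≠ 0 := fun h1 => h ((ZMod.natCast_eq_zero_iff q p).1 h1)
  have hpos : 0 < orderOf (q : ZMod p) := orderOf_pos_iff.2 (isOfFinOrder_iff_pow_eq_one.2 ⟨p - 1, by
    have := hp.out.two_le; omega, ZMod.pow_card_sub_one_eq_one h0⟩)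
  set j := orderOf (q : ZMod p) with hj
  rw [E, ← CharP.intCast_eq_zero_iff (ZMod p) p]
  have h2 : (Polynomial.cyclotomic j (ZMod p)).eval (q : ZMod p) = 0 :=
    (IsPrimitiveRoot.orderOf (q : ZMod p)).isRoot_cyclotomic hpos
  rw [← Polynomial.map_cyclotomic_int j (ZMod p), Polynomial.eval_map] at h2
  rw [← h2]
  have h1 := Polynomial.hom_eval₂ (Polynomial.cyclotomic j ℤ) (RingHom.id ℤ) (Int.castRingHom (ZMod p)) (q : ℤ)
  rw [RingHomCompTriple.comp_eq] at h1
  rw [Polynomial.eval, ← eq_intCast (Int.castRingHom (ZMod p)), h1, eq_intCast, Int.cast_natCast]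

/-- the order of `q` modulo `p` is an admissible number -/
theorem cnt_pos_of_dvd {q p : ℕ} [hp : Fact p.Prime] {dS : List ℕ} (hd : p ∣ pr q dS) (hq : 1 ≤ q) :
    0 < cnt dS (orderOf (q : ZMod p)) := by
  induction dS with
  | nil =>
    rw [pr_nil] at hd
    exact absurd (Nat.dvd_one.1 hd) hp.out.one_lt.ne'
  | cons d l ih =>
    rw [pr_cons, hp.out.dvd_mul] at hd
    unfold cnt
    rw [List.countP_cons]
    rcases hd with hd | hd
    · have h1 : orderOf (q : ZMod p) ∣ d := by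
        rw [orderOf_dvd_iff_pow_eq_one]
        have h2 : ((q ^ d - 1 : ℕ) : ZMod p) = 0 := (ZMod.natCast_eq_zero_iff _ p).2 hd
        rw [Nat.cast_sub (Nat.one_le_pow _ _ hq), Nat.cast_pow, Nat.cast_one, sub_eq_zero] at h2
        exact h2
      simp [h1]
    · have := ih hd
      unfold cnt at this
      omega

/-- the value of `pr` in `ℤ` -/
theorem prz {q : ℕ} (hq : 1 ≤ q) : ∀ l : List ℕ, ((pr q l : ℕ) : ℤ) = (l.map fun d => (q : ℤ) ^ d - 1).prod
  | [] => by simp [pr_nil]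
  | d :: l => by
    rw [pr_cons, Nat.cast_mul, prz hq l, List.map_cons, List.prod_cons, Nat.cast_sub (Nat.one_le_pow _ _ hq), Nat.cast_pow,
      Nat.cast_one]

theorem sum_of_lens {ι : Type*} {q : ℕ} (hq : 1 ≤ q) {Tb : List ((ι → ℤ) × ℕ)} {Ln E E' : List ℕ}
    (h1 : Tb.map Prod.snd = Ln)
    (h2 : (Ln.map fun e => (q : ℤ) ^ e).sum * (E'.map fun d => (q : ℤ) ^ d - 1).prod =
      (E.map fun d => (q : ℤ) ^ d - 1).prod) : (Tb.map fun e => q ^ e.2).sum * pr q E' = pr q E := by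
  have h3 : (Tb.map fun e => q ^ e.2) = (Ln.map fun e => q ^ e) := by
    rw [← h1, List.map_map]
    rfl
  have h4 : (((Ln.map fun e => q ^ e).sum : ℕ) : ℤ) = (Ln.map fun e => (q : ℤ) ^ e).sum := by
    rw [Nat.cast_list_sum, List.map_map]
    refine congrArg List.sum (List.map_congr_left fun e _ => ?_)
    simp
  rw [h3]
  have h5 : (((Ln.map fun e => q ^ e).sum * pr q E' : ℕ) : ℤ) = ((pr q E : ℕ) : ℤ) := by
    rw [Nat.cast_mul, h4, prz hq, prz hq, h2]
  exact_mod_cast h5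

end Cfsg.Agent.H116.RatB0
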