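import Cfsg.Agent.H116.RatB0.TraceOrb

/-!
# The sign of a permutation and the number of its orbits (helper116)
-/

set_option autoImplicit false

namespace Cfsg.Agent.H116.TraceOrb

open Equiv Equiv.Perm

variable {ι : Type*} [DecidableEq ι] [Fintype ι]

/-- the orbits are the fixed points and the cycles -/
theorem card_orb (σ : Perm ι) : Fintype.card (Orb σ) + σ.support.card = Fintype.card ι + σ.cycleFactorsFinset.card := by
  classical
  have hne : ∀ c : {c // c ∈ σ.cycleFactorsFinset}, ∃ x, x ∈ c.1.support := by
    intro c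
    have h1 := (mem_cycleFactorsFinset_iff.1 c.2).1
    obtain ⟨x, hx, -⟩ := h1
    exact ⟨x, mem_support.2 hx⟩
  choose x hx using hne
  let f : {i // σ i = i} ⊕ {c // c ∈ σ.cycleFactorsFinset} → Orb σ :=
    Sum.elim (fun i => oc σ i.1) (fun c => oc σ (x c))
  have hnf : ∀ c, σ (x c) ≠ x c := by
    intro c h
    have h1 := mem_cycleFactorsFinset_support_le c.2 (hx c)
    exact (mem_support.1 h1) h
  have hfix : ∀ (i : {i // σ i = i}) (j : ι), oc σ i.1 = oc σ j → i.1 = j := by
    intro i j h
    exact ((oc_eq_iff σ _ _).1 h).eq_of_left i.2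
  have hf : Function.Bijective f := by
    constructor
    · rintro (i | c) (j | c') h
      · exact congrArg Sum.inl (Subtype.ext (hfix i j.1 h))
      · exact absurd (hfix i _ h) (fun e => hnf c' (by rw [← e]; exact i.2))
      · exact absurd (hfix j _ h.symm) (fun e => hnf c (by rw [← e]; exact j.2))
      · have h1 : SameCycle σ (x c) (x c') := (oc_eq_iff σ _ _).1 h
        have h2 := cycle_is_cycleOf (hx c) c.2
        have h3 := cycle_is_cycleOf (hx c') c'.2
        exact congrArg Sum.inr (Subtype.ext (by rw [h2, h3, h1.cycleOf_eq]))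
    · intro o
      induction o using Quotient.inductionOn with
      | h i =>
        by_cases hi : σ i = i
        · exact ⟨Sum.inl ⟨i, hi⟩, rfl⟩
        · have hc : cycleOf σ i ∈ σ.cycleFactorsFinset :=
            cycleOf_mem_cycleFactorsFinset_iff.2 (mem_support.2 hi)
          refine ⟨Sum.inr ⟨cycleOf σ i, hc⟩, ?_⟩
          show oc σ (x ⟨cycleOf σ i, hc⟩) = oc σ i
          rw [oc_eq_iff]
          exact (((mem_support_cycleOf_iff' hi).1 (hx ⟨cycleOf σ i, hc⟩))).symm
  have h1 := Fintype.card_of_bijective hf
  rw [Fintype.card_sum, Fintype.card_coe] at h1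
  have h2 : Fintype.card {i // σ i = i} + σ.support.card = Fintype.card ι := by
    have h3 : σ.support = Finset.univ.filter fun i => σ i ≠ i := by
      ext i; simp
    rw [h3, Fintype.card_subtype, Finset.card_filter_add_card_filter_not, Finset.card_univ]
  omega

/-- **The sign is `(-1) ^ (number of points + number of orbits)`.** -/
theorem sign_eq (σ : Perm ι) : ((sign σ : ℤˣ) : ℤ) = (-1) ^ (Fintype.card ι + Fintype.card (Orb σ)) := by
  classical
  have h1 := sign_of_cycleType σ
  rw [sum_cycleType] at h1
  have h2 : Multiset.card σ.cycleType = σ.cycleFactorsFinset.card := by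
    rw [cycleType_def, Multiset.card_map]
    rfl
  rw [h2] at h1
  rw [h1]
  push_cast
  have h3 := card_orb σ
  have h4 : σ.support.card ≤ Fintype.card ι := Finset.card_le_univ _
  have h5 : Fintype.card ι + Fintype.card (Orb σ) + 2 * σ.support.card =
      σ.support.card + σ.cycleFactorsFinset.card + 2 * Fintype.card ι := by omega
  have h6 : ((-1 : ℤ)) ^ (Fintype.card ι + Fintype.card (Orb σ) + 2 * σ.support.card) =
      (-1) ^ (Fintype.card ι + Fintype.card (Orb σ)) := by
    rw [pow_add, pow_mul]
    simp
  have h7 : ((-1 : ℤ)) ^ (σ.support.card + σ.cycleFactorsFinset.card + 2 * Fintype.card ι) =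
      (-1) ^ (σ.support.card + σ.cycleFactorsFinset.card) := by
    rw [pow_add _ _ (2 * _), pow_mul]
    simp
  rw [← h6, h5, h7]

end Cfsg.Agent.H116.TraceOrb
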