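import Cfsg.Agent.H116.RatB0.OrdPar

/-!
# Tables of weights and orders of the maximal parabolic subgroups of `G2(q)` (helper116, generated)
-/

set_option autoImplicit false
set_option linter.unusedSectionVars false
set_option maxRecDepth 100000

namespace Cfsg.Agent.H116.RatB0

open CoxeterSystem Cfsg.Agent.ChevalleyStructure.CoxeterGeom Cfsg.Agent.Tits.Roots Cfsg.Agent.Tits.Core
  Cfsg.Agent.Tits.RootComb Cfsg.Agent.Nodes.Reps Cfsg.Agent.Nodes.BNOf
  Cfsg.Agent.Nodes.StabComb Cfsg.Agent.Nodes.Bruhat Cfsg.Agent.Nodes.LeviDec Cfsg.Agent.H35.Poin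
  Cfsg.Agent.H35.PoinNum Cfsg.Agent.H35.ExcIdx Cfsg.Agent.H134.StrP
  Cfsg.Agent.ChevalleyStructure.CoxeterGeomTypes Cfsg.Lie

theorem hpG2 : Nodes.RGDChev.IsType chevG2 2 CoxeterMatrix.G₂ := by
  simp [Nodes.RGDChev.IsType, Nodes.RGDChev.typeList]

theorem G2_p1_1 : PathOK CoxeterMatrix.G₂ [1] [1] [] 1 := by
  constructor <;> decide +kernel

theorem G2_p0_0 : PathOK CoxeterMatrix.G₂ [0] [0] [] 0 := by
  constructor <;> decide +kernel

section

variable {W Y : Type*} [Group W] [Group Y] [Finite W] [Finite Y]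
  {cs : CoxeterSystem CoxeterMatrix.G₂ W} {r : ℕ} {T : Subgroup Y} {n : Fin 2 → Y}
  {X : (Fin 2 → ℤ) → Subgroup Y} (R : RGD cs (hpG2.isCartan) r T n X) {q : ℕ} (hq : 2 ≤ q)
  (hs : ∀ i, Nat.card (X (sr i)) = q)

include R hq hs

theorem oG2_1 : ParOrd cs (hpG2.isCartan) T X q 2 [1] [1, 2] :=
  ParOrd.path (ParOrd.nil R) R hq hs G2_p1_1 (by decide)

theorem oG2_0 : ParOrd cs (hpG2.isCartan) T X q 2 [0] [1, 2] :=
  ParOrd.path (ParOrd.nil R) R hq hs G2_p0_0 (by decide)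

end

end Cfsg.Agent.H116.RatB0
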