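import Cfsg.Agent.H167.AltTrace

/-!
# An alternating sum formula for traces, with a permutation of the types (helper116)

`S : Sys E univ` a system of equivalence relations with gates; `g` a permutation of `E` mapping the relation `r K` to
`r (σ K)` for a permutation `σ` of the types. The trace of `g` on the harmonic functions is
`∑ U, (-1) ^ |U| * (number of the r K_U-classes fixed by g)`, `U` running over the sets of orbits of `σ`, `K_U` the union
of `U`.
-/

set_option autoImplicit false
set_option linter.unusedSectionVars false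
set_option linter.unusedVariables false

namespace Cfsg.Agent.H116.TraceOrb

open Module Cfsg Cfsg.Agent.H167.AltTrace

variable {ι : Type*} [DecidableEq ι] [Fintype ι]

/-- the orbits of a permutation -/
abbrev Orb (σ : Equiv.Perm ι) : Type _ := Quotient (Equiv.Perm.SameCycle.setoid σ)

/-- the class of an element -/
abbrev oc (σ : Equiv.Perm ι) (i : ι) : Orb σ := Quotient.mk (Equiv.Perm.SameCycle.setoid σ) i

noncomputable instance (σ : Equiv.Perm ι) : Fintype (Orb σ) := Fintype.ofFinite _
noncomputable instance (σ : Equiv.Perm ι) : DecidableEq (Orb σ) := Classical.decEq _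

/-- the union of a set of orbits -/
noncomputable def un (σ : Equiv.Perm ι) (U : Finset (Orb σ)) : Finset ι := Finset.univ.filter fun i => oc σ i ∈ U

theorem mem_un {σ : Equiv.Perm ι} {U : Finset (Orb σ)} {i : ι} : i ∈ un σ U ↔ oc σ i ∈ U := by
  unfold un
  rw [Finset.mem_filter]
  exact ⟨fun h => h.2, fun h => ⟨Finset.mem_univ _, h⟩⟩

theorem oc_apply (σ : Equiv.Perm ι) (i : ι) : oc σ (σ i) = oc σ i :=
  Quotient.sound (show Equiv.Perm.SameCycle σ (σ i) i from ⟨-1, by simp⟩)

theorem oc_eq_iff (σ : Equiv.Perm ι) (i j : ι) : oc σ i = oc σ j ↔ Equiv.Perm.SameCycle σ i j :=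
  ⟨fun h => Quotient.exact h, fun h => Quotient.sound h⟩

theorem map_un (σ : Equiv.Perm ι) (U : Finset (Orb σ)) : (un σ U).map σ.toEmbedding = un σ U := by
  ext i
  rw [Finset.mem_map, mem_un]
  constructor
  · rintro ⟨j, hj, rfl⟩
    rw [mem_un] at hj
    show oc σ (σ j) ∈ U
    rwa [oc_apply]
  · intro hi
    refine ⟨σ.symm i, ?_, σ.apply_symm_apply i⟩
    rw [mem_un, ← oc_apply, σ.apply_symm_apply]
    exact hi

/-- a stable set is the union of its orbits -/
theorem un_image {σ : Equiv.Perm ι} {K : Finset ι} (hK : K.map σ.toEmbedding = K) : un σ (K.image (oc σ)) = K := by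
  have h1 : ∀ i, i ∈ K → σ i ∈ K := by
    intro i hi
    rw [← hK]
    exact Finset.mem_map_of_mem _ hi
  have h2 : ∀ i, σ i ∈ K → i ∈ K := by
    intro i hi
    rw [← hK, Finset.mem_map] at hi
    obtain ⟨j, hj, hji⟩ := hi
    rwa [← σ.injective hji]
  have h3 : ∀ (n : ℤ) (i : ι), i ∈ K → (σ ^ n) i ∈ K := by
    intro n
    induction n using Int.induction_on with
    | zero => intro i hi; simpa using hi
    | succ n ih =>
      intro i hi
      rw [add_comm, zpow_add, zpow_one, Equiv.Perm.mul_apply]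
      exact h1 _ (ih i hi)
    | pred n ih =>
      intro i hi
      apply h2
      rw [← Equiv.Perm.mul_apply, ← zpow_one_add]
      have : 1 + (-(n : ℤ) - 1) = -(n : ℤ) := by ring
      rw [this]
      exact ih i hi
  ext i
  rw [mem_un, Finset.mem_image]
  constructor
  · rintro ⟨j, hj, hji⟩
    obtain ⟨n, hn⟩ := (oc_eq_iff σ j i).1 hji
    rw [← hn]
    exact h3 n j hj
  · intro hi
    exact ⟨i, hi, rfl⟩

theorem un_subset_iff {σ : Equiv.Perm ι} {U : Finset (Orb σ)} {K : Finset ι} (hK : K.map σ.toEmbedding = K) :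
    un σ U ⊆ K ↔ U ⊆ K.image (oc σ) := by
  constructor
  · intro h o ho
    induction o using Quotient.inductionOn with
    | h i => exact Finset.mem_image_of_mem _ (h (mem_un.2 ho))
  · intro h i hi
    rw [mem_un] at hi
    have := h hi
    rw [← un_image hK, mem_un]
    exact this

variable {E : Type*} (S : Sys E (Finset.univ : Finset ι)) [Fintype E]
  {G : Type*} [Group G] [MulAction G E] (g : G) (σ : Equiv.Perm ι)
  (hσ : ∀ (K : Finset ι) (x y : E), S.r K x y ↔ S.r (K.map σ.toEmbedding) (g • x) (g • y))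

include hσ

theorem mem_V_map {K : Finset ι} {v : E → ℂ} (hv : v ∈ S.V K) :
    permRep ℂ G E g v ∈ S.V (K.map σ.toEmbedding) := by
  intro x y hxy
  refine hv _ _ ?_
  rw [hσ, smul_inv_smul, smul_inv_smul]
  exact hxy

theorem mem_V {K : Finset ι} (hK : K.map σ.toEmbedding = K) (v : E → ℂ) (hv : v ∈ S.V K) :
    permRep ℂ G E g v ∈ S.V K := by
  have := mem_V_map S g σ hσ hv
  rwa [hK] at this

theorem mem_W [Nonempty E] (v : E → ℂ) (hv : v ∈ S.W) : permRep ℂ G E g v ∈ S.W := by
  induction hv using Submodule.span_induction with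
  | mem v hv =>
    obtain ⟨⟨i, hi⟩, rfl⟩ := hv
    obtain ⟨t, ht⟩ := Finset.nonempty_iff_ne_empty.2 hi
    apply S.V_le_W (Finset.mem_univ (σ t))
    have h1 := mem_V_map S g σ hσ (K := {t}) (v := S.basis i) (by
      rw [Sys.basis_apply]
      exact S.f_mem_V (Finset.singleton_subset_iff.2 ht))
    rwa [Finset.map_singleton] at h1
  | zero => rw [map_zero]; exact Submodule.zero_mem _
  | add a b _ _ ha hb => rw [map_add]; exact Submodule.add_mem _ ha hb
  | smul c a _ ha => rw [map_smul]; exact Submodule.smul_mem _ _ ha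

theorem mem_harm (v : E → ℂ) (hv : v ∈ S.harm) : permRep ℂ G E g v ∈ S.harm := by
  classical
  intro t ht x
  have h1 := hv (σ.symm t) (Finset.mem_univ _) (g⁻¹ • x)
  refine Eq.trans ?_ h1
  refine Fintype.sum_equiv (MulAction.toPerm g⁻¹) _ _ fun y => ?_
  change (if S.r {t} x y then v (g⁻¹ • y) else 0) = if S.r {σ.symm t} (g⁻¹ • x) (g⁻¹ • y) then v (g⁻¹ • y) else 0
  have h2 := hσ {σ.symm t} (g⁻¹ • x) (g⁻¹ • y)
  rw [smul_inv_smul, smul_inv_smul, Finset.map_singleton, Equiv.toEmbedding_apply, Equiv.apply_symm_apply] at h2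
  by_cases h : S.r {t} x y
  · rw [if_pos h, if_pos (h2.2 h)]
  · rw [if_neg h, if_neg (fun h3 => h (h2.1 h3))]

/-- the diagonal coefficients vanish unless `N x` is stable -/
theorem coef_eq_zero [Nonempty E] {x : E} (hx : (S.N x).map σ.toEmbedding ≠ S.N x) : S.coef g x = 0 := by
  unfold Sys.coef
  refine S.repr_eq_zero (K := (S.N x).map σ.toEmbedding) (Finset.subset_univ _) ?_ ?_
  · refine mem_V_map S g σ hσ ?_
    rw [Sys.basis_apply]
    exact S.f_mem_V (Finset.Subset.refl _)
  · intro h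
    exact hx (Finset.eq_of_subset_of_card_le h (by rw [Finset.card_map]))

theorem r_iff {K : Finset ι} (hK : K.map σ.toEmbedding = K) (x y : E) : S.r K (g • x) (g • y) ↔ S.r K x y := by
  rw [hσ K x y, hK]

theorem trace_V [Nonempty E] {K : Finset ι} (hK : K.map σ.toEmbedding = K) [Fintype {i // K ⊆ S.N i}] :
    LinearMap.trace ℂ (S.V K) ((permRep ℂ G E g).restrict (mem_V S g σ hσ hK)) =
      ∑ x : {i // K ⊆ S.N i}, S.coef g x :=
  trace_restrict_span S.basis (fun i => K ⊆ S.N i) (S.V K) (S.V_eq_span (Finset.subset_univ _)) _ _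

theorem trace_V' {K : Finset ι} (hK : K.map σ.toEmbedding = K) :
    LinearMap.trace ℂ (S.V K) ((permRep ℂ G E g).restrict (mem_V S g σ hσ hK)) =
      (Nat.card {x // K ⊆ S.N x ∧ S.r K x (g • x)} : ℂ) := by
  classical
  have hT : K ⊆ Finset.univ := Finset.subset_univ _
  let b : Basis {i // K ⊆ S.N i} ℂ (S.V K) := Basis.ofEquivFun (S.equivV hT)
  rw [LinearMap.trace_eq_matrix_trace ℂ b, Matrix.trace]
  have h2 : ∀ y : {i // K ⊆ S.N i}, (LinearMap.toMatrix b b
      ((permRep ℂ G E g).restrict (mem_V S g σ hσ hK))).diag y = if S.r K y (g • (y : E)) then 1 else 0 := by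
    intro y
    rw [Matrix.diag_apply, LinearMap.toMatrix_apply]
    have h3 : b.repr (((permRep ℂ G E g).restrict (mem_V S g σ hσ hK)) (b y)) y =
        ((b y : S.V K) : E → ℂ) (g⁻¹ • (y : E)) := rfl
    have h4 : ∀ z : E, ((b y : S.V K) : E → ℂ) z = if S.r K y z then 1 else 0 := by
      intro z
      have h5 : ((b y : S.V K) : E → ℂ) z = (Pi.single y (1 : ℂ) : {i // K ⊆ S.N i} → ℂ) (S.gt hT z) := by
        have h6 : b y = (S.equivV hT).symm (Pi.single y 1) := by
          rw [Module.Basis.coe_ofEquivFun]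
        rw [h6]
        rfl
      have h7 : S.gt hT z = y ↔ S.r K y z := by
        rw [S.gt_eq_iff hT]
        exact ⟨(S.equiv K hT).symm, (S.equiv K hT).symm⟩
      rw [h5]
      by_cases h8 : S.r K y z
      · rw [if_pos h8, h7.2 h8, Pi.single_eq_same]
      · rw [if_neg h8, Pi.single_eq_of_ne (fun h9 => h8 (h7.1 h9))]
    rw [h3, h4]
    have h5 : S.r K y (g⁻¹ • (y : E)) ↔ S.r K y (g • (y : E)) := by
      have h6 := r_iff S g σ hσ hK (y : E) (g⁻¹ • (y : E))
      rw [smul_inv_smul] at h6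
      rw [← h6]
      exact ⟨(S.equiv K hT).symm, (S.equiv K hT).symm⟩
    by_cases h : S.r K y (g • (y : E))
    · rw [if_pos h, if_pos (h5.2 h)]
    · rw [if_neg h, if_neg (fun h6 => h (h5.1 h6))]
  rw [Finset.sum_congr rfl fun y _ => h2 y, Finset.sum_boole]
  congr 1
  rw [← Fintype.card_subtype, ← Nat.card_eq_fintype_card]
  exact Nat.card_congr (Equiv.subtypeSubtypeEquivSubtypeInter (fun y => K ⊆ S.N y) (fun y => S.r K y (g • y)))

theorem sum_coef [Nonempty E] :
    ∑ U : Finset (Orb σ), (-1 : ℂ) ^ U.card * (Nat.card {x // un σ U ⊆ S.N x ∧ S.r (un σ U) x (g • x)} : ℂ) =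
      ∑ x, if S.N x = ∅ then S.coef g x else 0 := by
  classical
  have h1 : ∀ U : Finset (Orb σ), (-1 : ℂ) ^ U.card *
      (Nat.card {x // un σ U ⊆ S.N x ∧ S.r (un σ U) x (g • x)} : ℂ) =
      ∑ x, if un σ U ⊆ S.N x then (-1 : ℂ) ^ U.card * S.coef g x else 0 := by
    intro U
    rw [← trace_V' S g σ hσ (map_un σ U), trace_V S g σ hσ (map_un σ U), Finset.mul_sum]
    rw [← Finset.sum_filter]
    refine (Finset.sum_subtype (Finset.univ.filter (fun x => un σ U ⊆ S.N x)) (p := fun i => un σ U ⊆ S.N i) ?_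
      (fun x => (-1 : ℂ) ^ U.card * S.coef g x)).symm
    intro x
    simp
  rw [Finset.sum_congr rfl fun U _ => h1 U, Finset.sum_comm]
  refine Finset.sum_congr rfl fun x _ => ?_
  by_cases hx : (S.N x).map σ.toEmbedding = S.N x
  · rw [← Finset.sum_filter]
    have h2 : (Finset.univ : Finset (Finset (Orb σ))).filter (fun U => un σ U ⊆ S.N x) =
        ((S.N x).image (oc σ)).powerset := by
      ext U
      simp only [Finset.mem_filter, Finset.mem_powerset, Finset.mem_univ, true_and]
      exact un_subset_iff hx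
    rw [h2, ← Finset.sum_mul]
    have h3 : ∑ U ∈ ((S.N x).image (oc σ)).powerset, (-1 : ℂ) ^ U.card = if S.N x = ∅ then 1 else 0 := by
      have h4 := Finset.sum_powerset_neg_one_pow_card (x := (S.N x).image (oc σ))
      have h5 := congrArg (Int.cast : ℤ → ℂ) h4
      push_cast at h5
      rw [h5]
      by_cases h6 : S.N x = ∅
      · rw [if_pos h6, if_pos (by rw [h6, Finset.image_empty])]
      · rw [if_neg h6, if_neg (fun h7 => h6 (Finset.image_eq_empty.1 h7))]
    rw [h3]
    by_cases h : S.N x = ∅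
    · rw [if_pos h, if_pos h, one_mul]
    · rw [if_neg h, if_neg h, zero_mul]
  · rw [coef_eq_zero S g σ hσ hx]
    simp

/-- **The alternating sum formula for the trace on the harmonic functions, with a permutation of the types.** -/
theorem trace_harm [Nonempty E] :
    LinearMap.trace ℂ S.harm ((permRep ℂ G E g).restrict (mem_harm S g σ hσ)) =
      ∑ U : Finset (Orb σ), (-1 : ℂ) ^ U.card * (Nat.card {x // un σ U ⊆ S.N x ∧ S.r (un σ U) x (g • x)} : ℂ) := by
  classical
  rw [sum_coef S g σ hσ]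
  have h1 := trace_isCompl S.isCompl_harm (permRep ℂ G E g) (mem_harm S g σ hσ) (mem_W S g σ hσ)
  have h2 : LinearMap.trace ℂ S.W ((permRep ℂ G E g).restrict (mem_W S g σ hσ)) =
      ∑ x : {i // S.N i ≠ ∅}, S.coef g x :=
    trace_restrict_span S.basis (fun i => S.N i ≠ ∅) S.W rfl _ _
  have h3 : LinearMap.trace ℂ (E → ℂ) (permRep ℂ G E g) = ∑ x, S.coef g x := by
    rw [LinearMap.trace_eq_matrix_trace ℂ S.basis, Matrix.trace]
    refine Finset.sum_congr rfl fun i _ => ?_
    rw [Matrix.diag_apply, LinearMap.toMatrix_apply]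
    rfl
  have h4 : ∑ x : {i // S.N i ≠ ∅}, S.coef g x = ∑ x, if S.N x ≠ ∅ then S.coef g x else 0 := by
    rw [← Finset.sum_filter]
    refine (Finset.sum_subtype (Finset.univ.filter (fun x => S.N x ≠ ∅)) (p := fun i => S.N i ≠ ∅) ?_
      (fun x => S.coef g x)).symm
    intro x
    simp
  have h5 : ∑ x, S.coef g x = (∑ x, if S.N x = ∅ then S.coef g x else 0) +
      ∑ x, if S.N x ≠ ∅ then S.coef g x else 0 := by
    rw [← Finset.sum_add_distrib]
    refine Finset.sum_congr rfl fun x _ => ?_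
    by_cases h : S.N x = ∅
    · simp [h]
    · simp [h]
  rw [h3, h2, h4, h5] at h1
  exact (add_right_cancel h1).symm

end Cfsg.Agent.H116.TraceOrb
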